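import Cfsg.Agent.Lib.SuzukiChars.Values
import Cfsg.Agent.Lib.Blocks.ClassCount

/-!
# Squares of conjugacy classes in the Suzuki groups
-/

set_option autoImplicit false

noncomputable section

namespace CfsgLib.SuzukiChars

open Cfsg Cfsg.Lie CfsgLib.SuzukiGroup CfsgLib.Characters
open scoped ComplexConjugate

variable {F : Type*} [Field F] [Fintype F] [CharP F 2] {m : ℕ}
  (P : Params F (2 ^ (m + 1))) (hF : Fintype.card F = 2 ^ (2 * m + 1)) (hm : 1 ≤ m)

set_option quotPrecheck false in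
local notation "SzG" => ↥(Lie.Sz F (2 ^ (m + 1)))
local notation "tt" => ((2 : ℝ) ^ m)

variable [Fintype ↥(Lie.Sz F (2 ^ (m + 1)))]

/-- The term of a character in the class algebra constant of `x`, `x` and `g`. -/
def term (x g : SzG) (φ : SzG → ℂ) : ℂ := φ x * φ x * conj (φ g) / φ 1

/-- The kinds of class representatives. -/
inductive Kind : SzG → Prop
  | z : Kind (uEl P 0 1)
  | four {u : SzG} : u ∈ unip P → orderOf u = 4 → Kind u
  | split {t : Fˣ} : t ≠ 1 → Kind (dEl P t)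
  | big {x : SzG} : FPF x → Nat.card ↥(Subgroup.centralizer ({x} : Set SzG)) = toA m → Kind x
  | small {x : SzG} : FPF x → Nat.card ↥(Subgroup.centralizer ({x} : Set SzG)) = toB m → Kind x

include hF hm in
omit [Fintype ↥(Lie.Sz F (2 ^ (m + 1)))] in
theorem exists_kind {g : SzG} (hg : g ≠ 1) : ∃ g', IsConj g g' ∧ Kind P g' := by
  rcases trichotomy P hg with ⟨k, hk⟩ | ⟨k, x, hx, hk⟩ | hf
  · have h1 : k * g * k⁻¹ ≠ 1 := fun h => hg (conj_eq_one_iff.1 h)
    rcases unip_cases P hk h1 with ⟨h2, -⟩ | ⟨h4, -⟩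
    · refine ⟨_, (isConj_iff.2 ⟨k, rfl⟩).trans (isConj_involutions P h2
        (orderOf_uEl_zero P one_ne_zero) ⟨1, by simpa using hk⟩ ⟨1, by rw [one_mul, inv_one, mul_one]; exact ⟨0, 1, rfl⟩⟩),
        Kind.z⟩
    · exact ⟨_, isConj_iff.2 ⟨k, rfl⟩, Kind.four hk h4⟩
  · exact ⟨_, isConj_iff.2 ⟨k, hk⟩, Kind.split hx⟩
  · rcases fpf_card P hF hm hf with h | h
    · exact ⟨g, IsConj.refl g, Kind.big hf h⟩
    · exact ⟨g, IsConj.refl g, Kind.small hf h⟩

include hm in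
omit [Field F] [Fintype F] [CharP F 2] [Fintype ↥(Lie.Sz F (2 ^ (m + 1)))] in
theorem two_le_tt : 2 ≤ tt := le_self_pow₀ (by norm_num) (by omega)

theorem norm_lin_le (l : Lin F) (t : Fˣ) : ‖((l t : ℂˣ) : ℂ)‖ ≤ 1 := by
  refine le_of_eq (Complex.norm_eq_one_of_pow_eq_one (n := Nat.card Fˣ) ?_ Nat.card_pos.ne')
  rw [← Units.val_pow_eq_pow_val, ← map_pow, pow_card_eq_one', map_one, Units.val_one]

include hF hm in
/-- Uniform bounds for the principal series and the Steinberg character. -/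
theorem PS_bound {g : SzG} (hg : Kind P g) :
    (∀ l : Lin F, ‖PS l g‖ ≤ 2) ∧ ‖PS (1 : Lin F) g - 1‖ ≤ 1 := by
  have hu : ∀ {y : SzG}, y ∈ unip P → y ≠ 1 → (∀ l : Lin F, ‖PS l y‖ ≤ 2) ∧ ‖PS (1 : Lin F) y - 1‖ ≤ 1 :=
    fun hy h1 => by simp [PS_unip P hF hm _ hy h1]
  have hf : ∀ {y : SzG}, FPF y → (∀ l : Lin F, ‖PS l y‖ ≤ 2) ∧ ‖PS (1 : Lin F) y - 1‖ ≤ 1 :=
    fun hy => by simp [PS_fpf _ hy]
  cases hg with
  | z => exact hu ⟨0, 1, rfl⟩ (z_ne_one P hF hm)
  | four h h4 => exact hu h (fun e => by rw [e, orderOf_one] at h4; omega)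
  | split ht =>
    refine ⟨fun l => ?_, by rw [PS_dEl P hF hm 1 ht]; simp⟩
    rw [PS_dEl P hF hm l ht]
    exact (norm_add_le _ _).trans ((add_le_add (norm_lin_le l _) (norm_lin_le l _)).trans (by norm_num))
  | big h _ => exact hf h
  | small h _ => exact hf h

variable {a : ↥(Lie.Sz F (2 ^ (m + 1)))} (T : Data P a)

include hF hm in
theorem Data.normE {x : SzG} (hx : FPF x) (hc : Nat.card ↥(Subgroup.centralizer ({x} : Set SzG)) = toA m)
    {χ : IrrCharacter SzG} (hχ : χ ∈ T.E) : ‖(χ : SzG → ℂ) x‖ ≤ 2 * tt - 1 := by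
  obtain ⟨-, -, -, hs⟩ := T.atA P hF hm hx hc
  have h := Finset.single_le_sum (fun ξ _ => sq_nonneg ‖((ξ : IrrCharacter SzG) : SzG → ℂ) x‖) hχ
  rw [hs] at h
  have hA : (toA m : ℝ) = 2 * tt ^ 2 + 2 * tt + 1 := by
    have := congrArg (fun z : ℤ => (z : ℝ)) (cast_toA (m := m)); push_cast at this; exact this
  have ht := two_le_tt (m := m) hm
  refine (sq_le_sq₀ (norm_nonneg _) (by linarith)).1 ?_
  nlinarith [mul_nonneg (sub_nonneg.2 ht) (show (0:ℝ) ≤ tt - 1 by linarith)]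

include hF hm in
theorem Data.normD (ha : FPF a) (hca : Nat.card ↥(Subgroup.centralizer ({a} : Set SzG)) = toA m)
    {x : SzG} (hx : FPF x) (hc : Nat.card ↥(Subgroup.centralizer ({x} : Set SzG)) = toB m)
    {χ : IrrCharacter SzG} (hχ : χ ∈ T.D) : ‖(χ : SzG → ℂ) x‖ ≤ 2 * tt + 1 := by
  obtain ⟨-, -, hs⟩ := T.atB P hF hm ha hca hx hc
  have h := Finset.single_le_sum (fun ξ _ => sq_nonneg ‖((ξ : IrrCharacter SzG) : SzG → ℂ) x‖) hχ
  rw [hs] at h
  have hB : (toB m : ℝ) = 2 * tt ^ 2 - 2 * tt + 1 := by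
    have := congrArg (fun z : ℤ => (z : ℝ)) (cast_toB (m := m)); push_cast at this; exact this
  have ht := two_le_tt (m := m) hm
  refine (sq_le_sq₀ (norm_nonneg _) (by linarith)).1 ?_
  nlinarith

include hF hm in
theorem Data.normW_four (ha : FPF a) (hca : Nat.card ↥(Subgroup.centralizer ({a} : Set SzG)) = toA m)
    {u : SzG} (hu : u ∈ unip P) (ho : orderOf u = 4) {χ : IrrCharacter SzG} (hχ : χ ∈ T.W) :
    ‖(χ : SzG → ℂ) u‖ = tt := by
  have h := (T.atU P hF hm ha hca hu ho).2.2.2 χ hχ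
  have h2 : ‖(χ : SzG → ℂ) u‖ ^ 2 = tt ^ 2 := by
    rw [← norm_pow, h, norm_neg, norm_pow, norm_pow, Complex.norm_two]
  exact (pow_left_inj₀ (norm_nonneg _) (by positivity) two_ne_zero).1 h2

include hF hm in
/-- Uniform bounds for the other characters. -/
theorem Data.bound (ha : FPF a) (hca : Nat.card ↥(Subgroup.centralizer ({a} : Set SzG)) = toA m)
    {g : SzG} (hg : Kind P g) :
    (∀ χ ∈ T.E, ‖(χ : SzG → ℂ) g‖ ≤ 2 * tt - 1) ∧ (∀ χ ∈ T.D, ‖(χ : SzG → ℂ) g‖ ≤ 2 * tt + 1) ∧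
    (∀ χ ∈ T.W, ‖(χ : SzG → ℂ) g‖ ≤ tt) := by
  have ht := two_le_tt (m := m) hm
  have ht1 : (0 : ℝ) ≤ tt := by linarith
  have n2 : ‖(2 : ℂ) ^ m‖ = tt := by rw [norm_pow, Complex.norm_two]
  cases hg with
  | z =>
    refine ⟨fun χ hχ => ?_, fun χ hχ => ?_, fun χ hχ => ?_⟩
    · rw [T.zE χ hχ, show (2 * (2 : ℂ) ^ m - 1) = ((2 * tt - 1 : ℝ) : ℂ) by push_cast; ring,
        Complex.norm_real, Real.norm_eq_abs, abs_of_nonneg (by linarith)]
    · rw [T.zD χ hχ, norm_neg]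
      exact (norm_add_le _ _).trans (by rw [norm_mul, n2, Complex.norm_two, norm_one])
    · rw [T.zW χ hχ, norm_neg, n2]
  | four h h4 =>
    obtain ⟨e1, e2, -, -⟩ := T.atU P hF hm ha hca h h4
    refine ⟨fun χ hχ => ?_, fun χ hχ => ?_, fun χ hχ => (T.normW_four P hF hm ha hca h h4 hχ).le⟩
    · rw [e1 χ hχ, norm_neg, norm_one]; linarith
    · rw [e2 χ hχ, norm_neg, norm_one]; linarith
  | split h =>
    refine ⟨fun χ hχ => ?_, fun χ hχ => ?_, fun χ hχ => ?_⟩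
    · rw [vanish_torus P hF hm (T.mem_others_of_mem P (Or.inl hχ)) h, norm_zero]; linarith
    · rw [vanish_torus P hF hm (T.mem_others_of_mem P (Or.inr (Or.inl hχ))) h, norm_zero]; linarith
    · rw [vanish_torus P hF hm (T.mem_others_of_mem P (Or.inr (Or.inr hχ))) h, norm_zero]; linarith
  | big h hc =>
    obtain ⟨e2, e3, -, -⟩ := T.atA P hF hm h hc
    refine ⟨fun χ hχ => T.normE P hF hm h hc hχ, fun χ hχ => ?_, fun χ hχ => ?_⟩
    · rw [e2 χ hχ, norm_zero]; linarith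
    · rw [e3 χ hχ, norm_one]; linarith
  | small h hc =>
    obtain ⟨e1, e3, -⟩ := T.atB P hF hm ha hca h hc
    refine ⟨fun χ hχ => ?_, fun χ hχ => T.normD P hF hm ha hca h hc hχ, fun χ hχ => ?_⟩
    · rw [e1 χ hχ, norm_zero]; linarith
    · rw [e3 χ hχ, norm_neg, norm_one]; linarith

theorem norm_group_le (s : Finset (IrrCharacter SzG)) (x g : SzG) {d M N : ℝ} (hd : 0 < d)
    (hdeg : ∀ χ ∈ s, ‖(χ : SzG → ℂ) 1‖ = d) (hM : ∀ χ ∈ s, ‖(χ : SzG → ℂ) g‖ ≤ M)
    (hN : ∑ χ ∈ s, ‖(χ : SzG → ℂ) x‖ ^ 2 = N) :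
    ‖∑ χ ∈ s, term x g (χ : SzG → ℂ)‖ ≤ N * M / d := by
  refine (norm_sum_le _ _).trans ?_
  rw [← hN, Finset.sum_mul, Finset.sum_div]
  refine Finset.sum_le_sum fun χ hχ => ?_
  rw [term, norm_div, norm_mul, norm_mul, Complex.norm_conj, hdeg χ hχ, ← pow_two]
  exact div_le_div_of_nonneg_right (mul_le_mul_of_nonneg_left (hM χ hχ) (sq_nonneg _)) hd.le

include hF hm in
theorem Data.norm_degs :
    (∀ χ ∈ T.E, ‖(χ : SzG → ℂ) 1‖ = (2 * tt ^ 2 - 1) * (2 * tt ^ 2 - 2 * tt + 1)) ∧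
    (∀ χ ∈ T.D, ‖(χ : SzG → ℂ) 1‖ = (2 * tt ^ 2 - 1) * (2 * tt ^ 2 + 2 * tt + 1)) ∧
    (∀ χ ∈ T.W, ‖(χ : SzG → ℂ) 1‖ = (2 * tt ^ 2 - 1) * tt) := by
  have hq : ((Fintype.card F - 1 : ℕ) : ℝ) = 2 * tt ^ 2 - 1 := by
    rw [Nat.cast_sub Fintype.card_pos, hF]; push_cast; ring
  have hA : (toA m : ℝ) = 2 * tt ^ 2 + 2 * tt + 1 := by
    have := congrArg (fun z : ℤ => (z : ℝ)) (cast_toA (m := m)); push_cast at this; exact this
  have hB : (toB m : ℝ) = 2 * tt ^ 2 - 2 * tt + 1 := by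
    have := congrArg (fun z : ℤ => (z : ℝ)) (cast_toB (m := m)); push_cast at this; exact this
  have hn : ∀ χ : IrrCharacter SzG, ‖(χ : SzG → ℂ) 1‖ = (charDegree (χ : SzG → ℂ) : ℝ) := fun χ => by
    rw [← CfsgLib.Chars17.cast_irrDegree, Complex.norm_natCast]
  refine ⟨fun χ h => ?_, fun χ h => ?_, fun χ h => ?_⟩
  · rw [hn, T.degE χ h, Nat.cast_mul, hq, hB]
  · rw [hn, T.degD χ h, Nat.cast_mul, hq, hA]
  · rw [hn, T.degW χ h, Nat.cast_mul, hq, Nat.cast_pow]; norm_num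

theorem numeric {t : ℝ} (ht : 2 ≤ t) :
    0 < (2 * t ^ 2 - 1) * (2 * t ^ 2 - 2 * t + 1) ∧ 0 < (2 * t ^ 2 - 1) * (2 * t ^ 2 + 2 * t + 1) ∧
    0 < (2 * t ^ 2 - 1) * t ∧ 1 / (2 * t ^ 2) ^ 2 ≤ 1 / 64 ∧
    (2 * t ^ 2 + 2 * t - 3) * (2 * t - 1) / ((2 * t ^ 2 - 1) * (2 * t ^ 2 - 2 * t + 1)) ≤ 27 / 35 ∧
    (2 * t ^ 2 + 2 * t - 3) * 1 / ((2 * t ^ 2 - 1) * (2 * t ^ 2 - 2 * t + 1)) ≤ 9 / 35 ∧
    (t ^ 2 + t) / 2 * (2 * t - 1) / ((2 * t ^ 2 - 1) * (2 * t ^ 2 - 2 * t + 1)) ≤ 9 / 35 ∧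
    (2 * t ^ 2 - 2 * t - 3) * (2 * t + 1) / ((2 * t ^ 2 - 1) * (2 * t ^ 2 + 2 * t + 1)) ≤ 1 / 5 ∧
    (t ^ 2 - t) / 2 * (2 * t + 1) / ((2 * t ^ 2 - 1) * (2 * t ^ 2 + 2 * t + 1)) ≤ 1 / 5 ∧
    2 * 1 / ((2 * t ^ 2 - 1) * t) ≤ 1 / 7 ∧ 2 * t / ((2 * t ^ 2 - 1) * t) ≤ 2 / 7 ∧
    2 * t ^ 2 / ((2 * t ^ 2 - 1) * t) ≤ 4 / 7 ∧ (2 * t ^ 2 - 2) / ((2 * t ^ 2) ^ 2 + 1) ≤ 6 / 65 := by
  obtain ⟨s, hs, rfl⟩ : ∃ s : ℝ, 0 ≤ s ∧ t = s + 2 := ⟨t - 2, by linarith, by ring⟩
  have h2 : 0 ≤ s ^ 2 := sq_nonneg _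
  have h3 : 0 ≤ s ^ 3 := pow_nonneg hs 3
  have h4 : 0 ≤ s ^ 4 := pow_nonneg hs 4
  have p1 : (0 : ℝ) < 2 * (s + 2) ^ 2 - 1 := by nlinarith
  have p2 : (0 : ℝ) < 2 * (s + 2) ^ 2 - 2 * (s + 2) + 1 := by nlinarith
  have p3 : (0 : ℝ) < 2 * (s + 2) ^ 2 + 2 * (s + 2) + 1 := by nlinarith
  refine ⟨mul_pos p1 p2, mul_pos p1 p3, mul_pos p1 (by linarith), ?_, ?_, ?_, ?_, ?_, ?_, ?_, ?_, ?_, ?_⟩
  all_goals rw [div_le_div_iff₀ (by positivity) (by norm_num)]
  all_goals nlinarith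

include hF hm T in
theorem Data.two_sum (x g : SzG) [Fintype (Lin F)] [DecidableEq (Lin F)] :
    2 * ∑ χ : IrrCharacter SzG, term x g (χ : SzG → ℂ) =
      2 + (2 * term x g (PS (1 : Lin F) - fun _ => 1) +
        (∑ l ∈ Finset.univ.erase (1 : Lin F), term x g (PS l)) +
        2 * (∑ χ ∈ T.E, term x g (χ : SzG → ℂ) + ∑ χ ∈ T.D, term x g (χ : SzG → ℂ) +
          ∑ χ ∈ T.W, term x g (χ : SzG → ℂ))) := by
  rw [sum_split P hF hm (fun φ => term x g φ), T.sum_eq P]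
  simp only [term, map_one, mul_one, one_div, inv_one]
  ring

include P hF hm in
/-- The norm of the Steinberg term. -/
theorem norm_St (x g : SzG) :
    ‖term x g (PS (1 : Lin F) - fun _ => 1)‖ =
      ‖PS (1 : Lin F) x - 1‖ ^ 2 * ‖PS (1 : Lin F) g - 1‖ / (2 * tt ^ 2) ^ 2 := by
  rw [term, norm_div, norm_mul, norm_mul, Complex.norm_conj, ← pow_two]
  simp only [Pi.sub_apply]
  congr 1
  rw [PS_one P, add_sub_cancel_right, norm_pow, Complex.norm_natCast, hF]
  push_cast; ring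

include P hF hm in
theorem norm_PS_term (l : Lin F) (x g : SzG) :
    ‖term x g (PS l)‖ = ‖PS l x‖ ^ 2 * ‖PS l g‖ / ((2 * tt ^ 2) ^ 2 + 1) := by
  rw [term, norm_div, norm_mul, norm_mul, Complex.norm_conj, ← pow_two]
  congr 1
  rw [PS_one P, show ((Fintype.card F : ℂ) ^ 2 + 1) = (((2 * tt ^ 2) ^ 2 + 1 : ℝ) : ℂ) by
    rw [hF]; push_cast; ring, Complex.norm_real, Real.norm_eq_abs, abs_of_pos (by positivity)]

theorem ne_zero_of_small {S p q r u v : ℂ} (h : 2 * S = 2 + (2 * p + q + 2 * (r + u + v)))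
    (hlt : 2 * ‖p‖ + ‖q‖ + 2 * (‖r‖ + ‖u‖ + ‖v‖) < 2) : S ≠ 0 := by
  intro h0
  rw [h0, mul_zero, eq_comm, ← eq_neg_iff_add_eq_zero] at h
  have h2 := congrArg norm h
  rw [norm_neg, Complex.norm_two] at h2
  have e1 := norm_add_le (2 * p + q) (2 * (r + u + v))
  have e2 := norm_add_le (2 * p) q
  have e3 := norm_add_le (r + u) v
  have e4 := norm_add_le r u
  rw [norm_mul, Complex.norm_two] at e1 e2
  linarith

include hF hm T in
/-- The class algebra constants do not vanish. -/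
theorem Data.sum_ne_zero (ha : FPF a) (hca : Nat.card ↥(Subgroup.centralizer ({a} : Set SzG)) = toA m)
    {x g : SzG} (hx : Kind P x) (hx2 : 2 < orderOf x) (hg : Kind P g) :
    ∑ χ : IrrCharacter SzG, term x g (χ : SzG → ℂ) ≠ 0 := by
  classical
  have : Fintype (Lin F) := Fintype.ofFinite _
  have hS := T.two_sum P hF hm x g
  obtain ⟨hPl, hSt⟩ := PS_bound P hF hm hg
  obtain ⟨bE, bD, bW⟩ := T.bound P hF hm ha hca hg
  obtain ⟨dE, dD, dW⟩ := T.norm_degs P hF hm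
  have ht := two_le_tt (m := m) hm
  obtain ⟨pE, pD, pW, n1, n2, n3, n4, n5, n6, n7, n8, n9, n10⟩ := numeric ht
  have hqR : (Fintype.card F : ℝ) = 2 * tt ^ 2 := by rw [hF]; push_cast; ring
  have hcard : ((Finset.univ.erase (1 : Lin F)).card : ℝ) = 2 * tt ^ 2 - 2 := by
    rw [Finset.card_erase_of_mem (Finset.mem_univ _), Finset.card_univ, ← Nat.card_eq_fintype_card,
      card_lin, Nat.sub_sub, Nat.cast_sub (show 1 + 1 ≤ Fintype.card F from Fintype.one_lt_card), hqR]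
    norm_num
  have hK : (T.E.card : ℝ) = (tt ^ 2 + tt) / 2 := by
    have := congrArg (fun z : ℤ => (z : ℝ)) T.cardE; push_cast at this; linarith
  have hL : (T.D.card : ℝ) = (tt ^ 2 - tt) / 2 := by
    have := congrArg (fun z : ℤ => (z : ℝ)) T.cardD; push_cast at this; linarith
  have hA : (toA m : ℝ) - 4 = 2 * tt ^ 2 + 2 * tt - 3 := by
    have := congrArg (fun z : ℤ => (z : ℝ)) (cast_toA (m := m)); push_cast at this; linarith
  have hB : (toB m : ℝ) - 4 = 2 * tt ^ 2 - 2 * tt - 3 := by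
    have := congrArg (fun z : ℤ => (z : ℝ)) (cast_toB (m := m)); push_cast at this; linarith
  have hStle : ∀ {c : ℝ}, ‖PS (1 : Lin F) x - 1‖ ≤ 1 → (‖PS (1 : Lin F) g - 1‖ ≤ c) → 0 ≤ c →
      ‖term x g (PS (1 : Lin F) - fun _ => 1)‖ ≤ c / (2 * tt ^ 2) ^ 2 := by
    intro c h1 h2 hc
    rw [norm_St P hF hm]
    refine div_le_div_of_nonneg_right ?_ (by positivity)
    calc _ ≤ 1 * c := mul_le_mul (pow_le_one₀ (norm_nonneg _) h1) h2 (norm_nonneg _) zero_le_one
      _ = c := one_mul c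
  cases hx with
  | z => rw [orderOf_uEl_zero P one_ne_zero] at hx2; omega
  | @split y hy =>
    have hz : ∀ χ ∈ others F m, term (dEl P y) g (χ : SzG → ℂ) = 0 := fun χ h => by
      rw [term, vanish_torus P hF hm h hy]; simp
    rw [Finset.sum_eq_zero (fun χ hχ => hz χ (T.mem_others_of_mem P (Or.inl hχ))),
      Finset.sum_eq_zero (s := T.D) (fun χ hχ => hz χ (T.mem_others_of_mem P (Or.inr (Or.inl hχ)))),
      Finset.sum_eq_zero (s := T.W) (fun χ hχ => hz χ (T.mem_others_of_mem P (Or.inr (Or.inr hχ))))] at hS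
    have hsum : ∑ l ∈ Finset.univ.erase (1 : Lin F), ‖PS l (dEl P y)‖ ^ 2 = 2 * (2 * tt ^ 2) - 6 := by
      have h := sum_split P hF hm (fun φ : SzG → ℂ => φ (dEl P y) * conj (φ (dEl P y)))
      rw [column_orth, if_pos (IsConj.refl _), centralizer_dEl P hy, card_torus P,
        Finset.sum_eq_zero (s := others F m) (fun χ hχ => by
          rw [vanish_torus P hF hm hχ hy, zero_mul])] at h
      simp only [Pi.sub_apply, PS_dEl P hF hm 1 hy, MonoidHom.one_apply, Units.val_one,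
        add_sub_cancel_right, map_one, mul_one, mul_zero, add_zero, Complex.mul_conj'] at h
      rw [Nat.cast_sub Fintype.card_pos, Nat.cast_one] at h
      have h' : ((∑ l ∈ Finset.univ.erase (1 : Lin F), ‖PS l (dEl P y)‖ ^ 2 : ℝ) : ℂ) =
          ((2 * (Fintype.card F : ℝ) - 6 : ℝ) : ℂ) := by push_cast; linear_combination -h
      rw [← hqR]
      exact_mod_cast h'
    refine ne_zero_of_small hS ?_
    have h1 := hStle (c := 1) (by rw [PS_dEl P hF hm 1 hy]; simp) hSt zero_le_one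
    have h2 : ‖∑ l ∈ Finset.univ.erase (1 : Lin F), term (dEl P y) g (PS l)‖ ≤
        (2 * (2 * tt ^ 2) - 6) * 2 / ((2 * tt ^ 2) ^ 2 + 1) := by
      refine (norm_sum_le _ _).trans ?_
      rw [← hsum, Finset.sum_mul, Finset.sum_div]
      refine Finset.sum_le_sum fun l _ => ?_
      rw [norm_PS_term P hF hm]
      exact div_le_div_of_nonneg_right (mul_le_mul_of_nonneg_left (hPl l) (sq_nonneg _)) (by positivity)
    have h3 : (2 * (2 * tt ^ 2) - 6) * 2 / ((2 * tt ^ 2) ^ 2 + 1) ≤ 4 * (6 / 65) := by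
      refine le_trans ?_ (mul_le_mul_of_nonneg_left n10 (by norm_num))
      rw [← mul_div_assoc]
      exact div_le_div_of_nonneg_right (by linarith) (by positivity)
    simp only [norm_zero, add_zero, mul_zero]
    linarith
  | @big y hy hyc =>
    obtain ⟨eD, eW, -, eS⟩ := T.atA P hF hm hy hyc
    rw [hA] at eS
    have hps : ∀ l : Lin F, term x g (PS l) = 0 := fun l => by rw [term, PS_fpf l hy]; simp
    have hD0 : ∑ χ ∈ T.D, term x g (χ : SzG → ℂ) = 0 := Finset.sum_eq_zero fun χ hχ => by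
      rw [term, eD χ hχ]; simp
    have hW2 : ∑ χ ∈ T.W, ‖(χ : SzG → ℂ) x‖ ^ 2 = 2 := by
      rw [Finset.sum_congr rfl (g := fun _ => (1 : ℝ)) (fun χ hχ => by rw [eW χ hχ]; simp),
        Finset.sum_const, T.cardW]
      norm_num
    rw [Finset.sum_eq_zero (s := Finset.univ.erase (1 : Lin F)) (fun l _ => hps l), hD0] at hS
    have hxS : ‖PS (1 : Lin F) x - 1‖ ≤ 1 := by rw [PS_fpf _ hy]; simp
    have small : ∀ e w : ℝ, (∀ χ ∈ T.E, ‖(χ : SzG → ℂ) g‖ ≤ e) → (∀ χ ∈ T.W, ‖(χ : SzG → ℂ) g‖ ≤ w) →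
        1 / 64 + (2 * tt ^ 2 + 2 * tt - 3) * e / ((2 * tt ^ 2 - 1) * (2 * tt ^ 2 - 2 * tt + 1)) +
          2 * w / ((2 * tt ^ 2 - 1) * tt) < 1 →
        ∑ χ : IrrCharacter SzG, term x g (χ : SzG → ℂ) ≠ 0 := by
      intro e w he hw hlt
      refine ne_zero_of_small hS ?_
      have h1 := hStle (c := 1) hxS hSt zero_le_one
      have h2 := norm_group_le T.E x g pE dE he eS
      have h3 := norm_group_le T.W x g pW dW hw hW2
      simp only [norm_zero, add_zero]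
      linarith
    cases hg with
    | z =>
      intro h0
      rw [h0, mul_zero] at hS
      have hE : ∑ χ ∈ T.E, term x (uEl P 0 1) (χ : SzG → ℂ) =
          ((((2 * tt ^ 2 + 2 * tt - 3) * (2 * tt - 1) / ((2 * tt ^ 2 - 1) * (2 * tt ^ 2 - 2 * tt + 1))) : ℝ) : ℂ) := by
        rw [← eS, Finset.sum_mul, Finset.sum_div, Complex.ofReal_sum]
        refine Finset.sum_congr rfl fun χ hχ => ?_
        rw [term, T.zE χ hχ]
        have hsq : (χ : SzG → ℂ) x * (χ : SzG → ℂ) x = ((‖(χ : SzG → ℂ) x‖ ^ 2 : ℝ) : ℂ) := by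
          nth_rw 2 [← real_fpf P hF hm hy χ]
          rw [Complex.mul_conj']; push_cast; rfl
        have hd : (χ : SzG → ℂ) 1 = (((2 * tt ^ 2 - 1) * (2 * tt ^ 2 - 2 * tt + 1) : ℝ) : ℂ) := by
          have hn := dE χ hχ
          rw [← CfsgLib.Chars17.cast_irrDegree, Complex.norm_natCast] at hn
          rw [← CfsgLib.Chars17.cast_irrDegree, ← hn]
          simp
        rw [hsq, hd]
        simp only [map_sub, map_mul, map_pow, map_ofNat, map_one]
        push_cast; ring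
      have hW : ∑ χ ∈ T.W, term x (uEl P 0 1) (χ : SzG → ℂ) =
          (((-(2 * tt / ((2 * tt ^ 2 - 1) * tt))) : ℝ) : ℂ) := by
        rw [Finset.sum_congr rfl (g := fun _ => (((-(tt / ((2 * tt ^ 2 - 1) * tt))) : ℝ) : ℂ)) (fun χ hχ => by
          have hd : (χ : SzG → ℂ) 1 = (((2 * tt ^ 2 - 1) * tt : ℝ) : ℂ) := by
            have hn := dW χ hχ
            rw [← CfsgLib.Chars17.cast_irrDegree, Complex.norm_natCast] at hn
            rw [← CfsgLib.Chars17.cast_irrDegree, ← hn]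
            simp
          rw [term, T.zW χ hχ, eW χ hχ, hd]
          simp only [map_neg, map_pow, map_ofNat]
          push_cast; ring), Finset.sum_const, T.cardW, nsmul_eq_mul]
        push_cast; ring
      have hSt0 : term x (uEl P 0 1) (PS (1 : Lin F) - fun _ => 1) = 0 := by
        rw [term, Pi.sub_apply, Pi.sub_apply,
          PS_unip P hF hm _ ⟨0, 1, rfl⟩ (z_ne_one P hF hm)]
        simp
      rw [hE, hW, hSt0] at hS
      have h := congrArg Complex.re hS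
      simp only [Complex.add_re, Complex.zero_re, Complex.re_ofNat, Complex.ofReal_re, mul_zero, add_zero,
        Complex.mul_re, Complex.im_ofNat, Complex.ofReal_im, zero_mul, sub_zero, Complex.add_im] at h
      have : 0 ≤ (2 * tt ^ 2 + 2 * tt - 3) * (2 * tt - 1) / ((2 * tt ^ 2 - 1) * (2 * tt ^ 2 - 2 * tt + 1)) :=
        div_nonneg (mul_nonneg (by nlinarith) (by linarith)) pE.le
      linarith
    | four h h4 =>
      refine small 1 tt (fun χ hχ => ?_) bW (by linarith)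
      rw [(T.atU P hF hm ha hca h h4).1 χ hχ, norm_neg, norm_one]
    | split h =>
      refine small 1 tt (fun χ hχ => ?_) bW (by linarith)
      rw [vanish_torus P hF hm (T.mem_others_of_mem P (Or.inl hχ)) h, norm_zero]
      exact zero_le_one
    | big h hc =>
      refine small _ 1 bE (fun χ hχ => ?_) (by linarith)
      rw [(T.atA P hF hm h hc).2.1 χ hχ, norm_one]
    | small h hc =>
      refine small _ 1 bE (fun χ hχ => ?_) (by linarith)
      rw [(T.atB P hF hm ha hca h hc).2.1 χ hχ, norm_neg, norm_one]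
  | @small y hy hyc =>
    obtain ⟨eE, eW, eS⟩ := T.atB P hF hm ha hca hy hyc
    rw [hB] at eS
    have hps : ∀ l : Lin F, term x g (PS l) = 0 := fun l => by rw [term, PS_fpf l hy]; simp
    have hE0 : ∑ χ ∈ T.E, term x g (χ : SzG → ℂ) = 0 := Finset.sum_eq_zero fun χ hχ => by
      rw [term, eE χ hχ]; simp
    have hW2 : ∑ χ ∈ T.W, ‖(χ : SzG → ℂ) x‖ ^ 2 = 2 := by
      rw [Finset.sum_congr rfl (g := fun _ => (1 : ℝ)) (fun χ hχ => by rw [eW χ hχ]; simp),
        Finset.sum_const, T.cardW]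
      norm_num
    rw [Finset.sum_eq_zero (s := Finset.univ.erase (1 : Lin F)) (fun l _ => hps l), hE0] at hS
    refine ne_zero_of_small hS ?_
    have h1 := hStle (c := 1) (by rw [PS_fpf _ hy]; simp) hSt zero_le_one
    have h2 := norm_group_le T.D x g pD dD bD eS
    have h3 := norm_group_le T.W x g pW dW bW hW2
    simp only [norm_zero, add_zero]
    linarith
  | @four y hy hy4 =>
    obtain ⟨eE, eD, eW, eW2⟩ := T.atU P hF hm ha hca hy hy4
    have hy1 : x ≠ 1 := fun e => by rw [e, orderOf_one] at hy4; omega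
    have hSt0 : term x g (PS (1 : Lin F) - fun _ => 1) = 0 := by
      rw [term, Pi.sub_apply, PS_unip P hF hm _ hy hy1]; simp
    rw [hSt0] at hS
    have hE2 : ∑ χ ∈ T.E, ‖(χ : SzG → ℂ) x‖ ^ 2 = (tt ^ 2 + tt) / 2 := by
      rw [Finset.sum_congr rfl (g := fun _ => (1 : ℝ)) (fun χ hχ => by rw [eE χ hχ]; simp),
        Finset.sum_const, nsmul_eq_mul, mul_one, hK]
    have hD2 : ∑ χ ∈ T.D, ‖(χ : SzG → ℂ) x‖ ^ 2 = (tt ^ 2 - tt) / 2 := by
      rw [Finset.sum_congr rfl (g := fun _ => (1 : ℝ)) (fun χ hχ => by rw [eD χ hχ]; simp),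
        Finset.sum_const, nsmul_eq_mul, mul_one, hL]
    have hW2 : ∑ χ ∈ T.W, ‖(χ : SzG → ℂ) x‖ ^ 2 = 2 * tt ^ 2 := by
      rw [Finset.sum_congr rfl (g := fun _ => tt ^ 2) (fun χ hχ => by
        rw [T.normW_four P hF hm ha hca hy hy4 hχ]), Finset.sum_const, T.cardW, nsmul_eq_mul]
      norm_num
    have hP : ∀ c : ℝ, (∀ l : Lin F, ‖PS l g‖ ≤ c) →
        ‖∑ l ∈ Finset.univ.erase (1 : Lin F), term x g (PS l)‖ ≤
          c * ((2 * tt ^ 2 - 2) / ((2 * tt ^ 2) ^ 2 + 1)) := by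
      intro c hc
      refine (norm_sum_le _ _).trans (le_of_le_of_eq (Finset.sum_le_card_nsmul _ _
        (c / ((2 * tt ^ 2) ^ 2 + 1)) fun l _ => ?_) ?_)
      · rw [norm_PS_term P hF hm, PS_unip P hF hm l hy hy1, norm_one, one_pow, one_mul]
        exact div_le_div_of_nonneg_right (hc l) (by positivity)
      · rw [nsmul_eq_mul, hcard]; ring
    have gE := norm_group_le T.E x g pE dE bE hE2
    have gD := norm_group_le T.D x g pD dD bD hD2
    cases hg with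
    | z =>
      intro h0
      rw [h0, mul_zero] at hS
      have hv : ∀ χ : IrrCharacter SzG, (χ : SzG → ℂ) 1 = ((‖(χ : SzG → ℂ) 1‖ : ℝ) : ℂ) := fun χ => by
        rw [← CfsgLib.Chars17.cast_irrDegree]; simp
      have hW : ∑ χ ∈ T.W, term x (uEl P 0 1) (χ : SzG → ℂ) =
          (((2 * tt ^ 3 / ((2 * tt ^ 2 - 1) * tt)) : ℝ) : ℂ) := by
        rw [Finset.sum_congr rfl (g := fun _ => (((tt ^ 3 / ((2 * tt ^ 2 - 1) * tt)) : ℝ) : ℂ)) (fun χ hχ => by
          rw [term, T.zW χ hχ, hv χ, dW χ hχ, ← pow_two, eW2 χ hχ]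
          simp only [map_neg, map_pow, map_ofNat]
          push_cast; ring), Finset.sum_const, T.cardW, nsmul_eq_mul]
        push_cast; ring
      have hE : ∑ χ ∈ T.E, term x (uEl P 0 1) (χ : SzG → ℂ) =
          ((((tt ^ 2 + tt) / 2 * (2 * tt - 1) / ((2 * tt ^ 2 - 1) * (2 * tt ^ 2 - 2 * tt + 1))) : ℝ) : ℂ) := by
        rw [← hK, mul_div_assoc, Complex.ofReal_mul, Complex.ofReal_natCast, ← nsmul_eq_mul, ← Finset.sum_const]
        refine Finset.sum_congr rfl fun χ hχ => ?_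
        rw [term, T.zE χ hχ, hv χ, dE χ hχ, eE χ hχ]
        simp only [map_sub, map_mul, map_pow, map_ofNat, map_one]
        push_cast; ring
      have hPS : ∑ l ∈ Finset.univ.erase (1 : Lin F), term x (uEl P 0 1) (PS l) =
          ((((2 * tt ^ 2 - 2) / ((2 * tt ^ 2) ^ 2 + 1)) : ℝ) : ℂ) := by
        rw [← hcard, div_eq_mul_inv, Complex.ofReal_mul, Complex.ofReal_natCast, ← nsmul_eq_mul, ← Finset.sum_const]
        refine Finset.sum_congr rfl fun l _ => ?_
        rw [term, PS_unip P hF hm l hy hy1, PS_unip P hF hm l ⟨0, 1, rfl⟩ (z_ne_one P hF hm), PS_one P, hF]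
        simp only [map_one]
        push_cast; ring
      rw [hE, hW, hPS] at hS
      have h := congrArg Complex.re hS
      simp only [Complex.add_re, Complex.zero_re, Complex.re_ofNat, Complex.ofReal_re, mul_zero, add_zero,
        Complex.mul_re, Complex.im_ofNat, Complex.ofReal_im, zero_mul, sub_zero, zero_add] at h
      have hre := Complex.abs_re_le_norm (∑ χ ∈ T.D, term x (uEl P 0 1) (χ : SzG → ℂ))
      have h5 := (abs_le.1 hre).1
      have : 0 ≤ 2 * tt ^ 3 / ((2 * tt ^ 2 - 1) * tt) := div_nonneg (by positivity) pW.le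
      have : 0 ≤ (tt ^ 2 + tt) / 2 * (2 * tt - 1) / ((2 * tt ^ 2 - 1) * (2 * tt ^ 2 - 2 * tt + 1)) :=
        div_nonneg (mul_nonneg (by positivity) (by linarith)) pE.le
      have : 0 ≤ (2 * tt ^ 2 - 2) / ((2 * tt ^ 2) ^ 2 + 1) := div_nonneg (by nlinarith) (by positivity)
      linarith
    | four h h4 =>
      obtain ⟨-, -, gW, -⟩ := T.atU P hF hm ha hca h h4
      have hW0 : ∑ χ ∈ T.W, term x g (χ : SzG → ℂ) = 0 := by
        rw [Finset.sum_congr rfl (g := fun χ : IrrCharacter SzG =>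
          (-((2 : ℂ) ^ m) ^ 2) / (((Fintype.card F - 1) * 2 ^ m : ℕ) : ℂ) * conj ((χ : SzG → ℂ) g))
          (fun χ hχ => by
            rw [term, ← pow_two, eW2 χ hχ, ← CfsgLib.Chars17.cast_irrDegree, T.degW χ hχ]; ring),
          ← Finset.mul_sum, ← map_sum, gW, map_zero, mul_zero]
      rw [hW0] at hS
      refine ne_zero_of_small hS ?_
      have := hP 2 hPl
      simp only [norm_zero, add_zero]
      linarith
    | split h =>
      have hz : ∀ χ ∈ others F m, term x (dEl P _) (χ : SzG → ℂ) = 0 := fun χ hh => by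
        rw [term, vanish_torus P hF hm hh h]; simp
      rw [Finset.sum_eq_zero (fun χ hχ => hz χ (T.mem_others_of_mem P (Or.inl hχ))),
        Finset.sum_eq_zero (s := T.D) (fun χ hχ => hz χ (T.mem_others_of_mem P (Or.inr (Or.inl hχ)))),
        Finset.sum_eq_zero (s := T.W) (fun χ hχ => hz χ (T.mem_others_of_mem P (Or.inr (Or.inr hχ))))] at hS
      refine ne_zero_of_small hS ?_
      have := hP 2 hPl
      simp only [norm_zero, add_zero]
      linarith
    | big h hc =>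
      obtain ⟨gD0, gW1, -, -⟩ := T.atA P hF hm h hc
      rw [Finset.sum_eq_zero (s := T.D) (fun χ hχ => by rw [term, gD0 χ hχ]; simp),
        Finset.sum_eq_zero (s := Finset.univ.erase (1 : Lin F)) (fun l _ => by
          rw [term, PS_fpf l h]; simp)] at hS
      refine ne_zero_of_small hS ?_
      have := norm_group_le T.W x g pW dW (fun χ hχ => le_of_eq (by rw [gW1 χ hχ, norm_one])) hW2
      simp only [norm_zero, add_zero, mul_zero, zero_add]
      rw [mul_one] at this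
      linarith
    | small h hc =>
      obtain ⟨gE0, gW1, -⟩ := T.atB P hF hm ha hca h hc
      rw [Finset.sum_eq_zero (s := T.E) (fun χ hχ => by rw [term, gE0 χ hχ]; simp),
        Finset.sum_eq_zero (s := Finset.univ.erase (1 : Lin F)) (fun l _ => by
          rw [term, PS_fpf l h]; simp)] at hS
      refine ne_zero_of_small hS ?_
      have := norm_group_le T.W x g pW dW (fun χ hχ => le_of_eq (by rw [gW1 χ hχ, norm_neg, norm_one])) hW2
      simp only [norm_zero, add_zero, mul_zero, zero_add]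
      rw [mul_one] at this
      linarith

include P hF hm in
/-- Every non-identity element is a product of two conjugates of a given element of order above two. -/
theorem exists_conj_mul_conj (x : SzG) (hx2 : 2 < orderOf x) (g : SzG) (hg : g ≠ 1) :
    ∃ u v : SzG, g = (u * x * u⁻¹) * (v * x * v⁻¹) := by
  classical
  obtain ⟨a, -, ha, -, hca, -⟩ := exists_torus_pair P hF hm
  obtain ⟨T⟩ := exists_data P hF hm ha hca
  have hx1 : x ≠ 1 := fun e => by rw [e, orderOf_one] at hx2; omega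
  obtain ⟨x', hxx, kx⟩ := exists_kind P hF hm hx1
  obtain ⟨g', hgg, kg⟩ := exists_kind P hF hm hg
  have hox : 2 < orderOf x' := by
    obtain ⟨c, hc⟩ := isConj_iff.1 hxx
    have h := orderOf_injective (MulAut.conj c).toMonoidHom (MulAut.conj c).injective x
    simp only [MulEquiv.coe_toMonoidHom, MulAut.conj_apply, hc] at h
    rwa [h]
  have hne := T.sum_ne_zero P hF hm ha hca kx hox kg
  by_contra hno
  apply hne
  have hempty : CfsgLib.ClassCount.pairs x x {g} = ∅ := by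
    refine Finset.eq_empty_iff_forall_notMem.2 fun p hp => ?_
    obtain ⟨hyz, hmem⟩ := (@Finset.mem_filter _ _ (_) _ _).1 hp
    obtain ⟨y, z⟩ := p
    rw [Finset.mem_product, CfsgLib.ClassCount.mem_cls, CfsgLib.ClassCount.mem_cls] at hyz
    obtain ⟨u, rfl⟩ := isConj_iff.1 hyz.1
    obtain ⟨v, rfl⟩ := isConj_iff.1 hyz.2
    exact hno ⟨u, v, (Finset.mem_singleton.1 hmem).symm⟩
  have h := CfsgLib.ClassCount.card_pairs_mul_centralizers x x {g}
  rw [hempty, Finset.card_empty, Nat.cast_zero, zero_mul, zero_mul] at h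
  have hG : (Nat.card SzG : ℂ) ≠ 0 := Nat.cast_ne_zero.2 Nat.card_pos.ne'
  refine mul_left_cancel₀ hG ?_
  rw [mul_zero, Finset.mul_sum]
  refine Eq.trans ?_ h.symm
  refine Finset.sum_congr rfl fun χ _ => ?_
  rw [term, ← CfsgLib.ClassCount.card_div_degree, Finset.sum_singleton, irr_apply_inv,
    ← classFunction_eq_of_isConj (irr_isClassFunction χ) hxx,
    ← classFunction_eq_of_isConj (irr_isClassFunction χ) hgg]
  ring

end CfsgLib.SuzukiChars
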