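import Cfsg.Agent.Lib.SuzukiChars.Degrees
import Cfsg.Agent.Lib.Characters.BrauerPerm

/-!
# Values of the irreducible characters of the Suzuki groups
-/

set_option autoImplicit false

noncomputable section

namespace CfsgLib.SuzukiChars

open Cfsg Cfsg.Lie CfsgLib.SuzukiGroup CfsgLib.Characters
open scoped ComplexConjugate

variable {F : Type*} [Field F] [Fintype F] [CharP F 2] {m : ℕ}
  (P : Params F (2 ^ (m + 1))) (hF : Fintype.card F = 2 ^ (2 * m + 1)) (hm : 1 ≤ m)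

set_option quotPrecheck false in
local notation "SzG" => ↥(Lie.Sz F (2 ^ (m + 1)))

include P hF hm in
/-- An element without fixed points is conjugate to its inverse. -/
theorem isConj_inv_fpf {x : SzG} (hx : FPF x) : IsConj x x⁻¹ := by
  classical
  have hodd : Odd (Nat.card ↥(Subgroup.centralizer ({x} : Set SzG))) := by
    rcases fpf_card P hF hm hx with h | h <;> rw [h]
    · exact odd_toA hm
    · exact odd_toB hm
  have hx4 : ¬ orderOf x ∣ 4 := fun h => hx.ne_one (by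
    have := two_elt_avoids P hF hodd h (w := 1)
      (by simpa using Subgroup.mem_centralizer_singleton_iff.2 (rfl : x * x = x * x))
    simpa using this)
  have : Fact (Nat.Prime 2) := ⟨Nat.prime_two⟩
  obtain ⟨v, hv⟩ := exists_prime_orderOf_dvd_card' 2
    (show 2 ∣ Nat.card ↥(Subgroup.normalizer (Subgroup.centralizer ({x} : Set SzG) : Set SzG)) by
      rw [fpf_card_normalizer P hF hm hx]; exact (by norm_num : 2 ∣ 4).mul_right _)
  have hv' : orderOf (v : SzG) = 2 := by rwa [Subgroup.orderOf_coe]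
  refine isConj_iff.2 ⟨v, (oddTI P hF hm).invert hx4 v.2 ?_ ?_
    (Subgroup.mem_centralizer_singleton_iff.2 rfl)⟩
  · have h := pow_orderOf_eq_one (v : SzG)
    rw [hv'] at h
    rw [← pow_two, h]
  · intro h
    rw [h, orderOf_one] at hv'
    omega

variable [Fintype ↥(Lie.Sz F (2 ^ (m + 1)))]

include P hF hm in
theorem real_fpf {x : SzG} (hx : FPF x) (χ : IrrCharacter SzG) :
    conj ((χ : SzG → ℂ) x) = (χ : SzG → ℂ) x := by
  rw [← irr_apply_inv, ← classFunction_eq_of_isConj (irr_isClassFunction χ) (isConj_inv_fpf P hF hm hx)]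

include P in
omit [Fintype ↥(Lie.Sz F (2 ^ (m + 1)))] in
theorem not_isConj_fpf {x y : SzG} (hx : FPF x) (hy : y ∈ borel (F := F) (e := 2 ^ (m + 1))) :
    ¬ IsConj x y := fun h => by
  obtain ⟨c, hc⟩ := isConj_iff.1 h
  exact hx c (hc ▸ hy)

include hm in
omit [CharP F 2] [Fintype ↥(Lie.Sz F (2 ^ (m + 1)))] in
theorem deg_cancel {a b : ℕ} (h : (Fintype.card F - 1) * a = (Fintype.card F - 1) * b) : a = b :=
  Nat.eq_of_mul_eq_mul_left (by have := Fintype.one_lt_card (α := F); omega) h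

include hm in
omit [Field F] [Fintype F] [CharP F 2] [Fintype ↥(Lie.Sz F (2 ^ (m + 1)))] in
theorem tori_ne : toA m ≠ toB m ∧ toA m ≠ 2 ^ m ∧ toB m ≠ 2 ^ m := by
  have he : Even (2 ^ m) := Nat.even_pow.2 ⟨even_two, by omega⟩
  refine ⟨?_, fun h => Nat.not_even_iff_odd.2 (odd_toA hm) (h ▸ he),
    fun h => Nat.not_even_iff_odd.2 (odd_toB hm) (h ▸ he)⟩
  have := Nat.two_pow_pos (m + 1)
  have := r_le_q m
  unfold toA toB; omega

variable {a : ↥(Lie.Sz F (2 ^ (m + 1)))} (T : Data P a)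

theorem Data.sum_eq (f : IrrCharacter SzG → ℂ) :
    ∑ χ ∈ others F m, f χ = ∑ χ ∈ T.E, f χ + ∑ χ ∈ T.D, f χ + ∑ χ ∈ T.W, f χ := by
  classical
  rw [T.split, Finset.sum_union T.disjEW, Finset.sum_union T.disjED]

theorem Data.mem_others_of_mem {χ : IrrCharacter SzG} (h : χ ∈ T.E ∨ χ ∈ T.D ∨ χ ∈ T.W) :
    χ ∈ others F m := by
  classical
  rw [T.split, Finset.mem_union, Finset.mem_union]
  tauto

include hm in
theorem Data.mem_iff (χ : IrrCharacter SzG) :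
    (χ ∈ T.E ↔ χ ∈ others F m ∧ charDegree (χ : SzG → ℂ) = (Fintype.card F - 1) * toB m) ∧
    (χ ∈ T.D ↔ χ ∈ others F m ∧ charDegree (χ : SzG → ℂ) = (Fintype.card F - 1) * toA m) ∧
    (χ ∈ T.W ↔ χ ∈ others F m ∧ charDegree (χ : SzG → ℂ) = (Fintype.card F - 1) * 2 ^ m) := by
  classical
  obtain ⟨h1, h2, h3⟩ := tori_ne (m := m) hm
  have key : χ ∈ others F m → χ ∈ T.E ∨ χ ∈ T.D ∨ χ ∈ T.W := fun h => by
    rw [T.split, Finset.mem_union, Finset.mem_union] at h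
    tauto
  refine ⟨⟨fun h => ⟨T.mem_others_of_mem P (Or.inl h), T.degE χ h⟩, fun ⟨h, hd⟩ => ?_⟩,
    ⟨fun h => ⟨T.mem_others_of_mem P (Or.inr (Or.inl h)), T.degD χ h⟩, fun ⟨h, hd⟩ => ?_⟩,
    ⟨fun h => ⟨T.mem_others_of_mem P (Or.inr (Or.inr h)), T.degW χ h⟩, fun ⟨h, hd⟩ => ?_⟩⟩
  · rcases key h with h | h | h
    · exact h
    · exact absurd (deg_cancel hm ((T.degD χ h).symm.trans hd)) h1
    · exact absurd (deg_cancel hm ((T.degW χ h).symm.trans hd)) h3.symm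
  · rcases key h with h | h | h
    · exact absurd (deg_cancel hm ((T.degE χ h).symm.trans hd)) h1.symm
    · exact h
    · exact absurd (deg_cancel hm ((T.degW χ h).symm.trans hd)) h2.symm
  · rcases key h with h | h | h
    · exact absurd (deg_cancel hm ((T.degE χ h).symm.trans hd)) h3
    · exact absurd (deg_cancel hm ((T.degD χ h).symm.trans hd)) h2
    · exact h

include hF hm in
/-- The values at an element with a torus of order `q + r + 1` as centraliser. -/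
theorem Data.atA {x : SzG} (hx : FPF x) (hc : Nat.card ↥(Subgroup.centralizer ({x} : Set SzG)) = toA m) :
    (∀ χ ∈ T.D, (χ : SzG → ℂ) x = 0) ∧ (∀ χ ∈ T.W, (χ : SzG → ℂ) x = 1) ∧
    ∑ χ ∈ T.E, (χ : SzG → ℂ) x = 1 ∧
    ∑ χ ∈ T.E, ‖(χ : SzG → ℂ) x‖ ^ 2 = (toA m : ℝ) - 4 := by
  obtain ⟨T'⟩ := exists_data P hF hm hx hc
  have hmem : x ∈ Subgroup.centralizer ({x} : Set SzG) := Subgroup.mem_centralizer_singleton_iff.2 rfl
  have hE : T.E = T'.E := Finset.ext fun χ => (T.mem_iff P hm χ).1.trans (T'.mem_iff P hm χ).1.symm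
  obtain ⟨h1, h2⟩ := T'.aE x hmem hx.ne_one
  refine ⟨fun χ hχ => T'.aD χ ((T'.mem_iff P hm χ).2.1.2 ((T.mem_iff P hm χ).2.1.1 hχ)) x hmem hx.ne_one,
    fun χ hχ => T'.aW χ ((T'.mem_iff P hm χ).2.2.2 ((T.mem_iff P hm χ).2.2.1 hχ)) x hmem hx.ne_one,
    hE ▸ h1, ?_⟩
  rw [hE]
  simp only [Complex.mul_conj'] at h2
  exact_mod_cast h2

include hF hm in
/-- Sums against the degrees, the values at an involution and at the torus. -/
theorem Data.three_sums {x y : SzG} (hx : FPF x)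
    (hc : Nat.card ↥(Subgroup.centralizer ({x} : Set SzG)) = toA m) {e : ℂ}
    (he : ∀ χ ∈ T.E, (χ : SzG → ℂ) y = e) :
    (∑ χ ∈ others F m, (χ : SzG → ℂ) y * conj ((χ : SzG → ℂ) 1) =
      (2 * ((2 : ℂ) ^ m) ^ 2 - 1) * (T.E.card * e * (2 * ((2 : ℂ) ^ m) ^ 2 - 2 * (2 : ℂ) ^ m + 1) +
        (2 * ((2 : ℂ) ^ m) ^ 2 + 2 * (2 : ℂ) ^ m + 1) * ∑ χ ∈ T.D, (χ : SzG → ℂ) y +
        (2 : ℂ) ^ m * ∑ χ ∈ T.W, (χ : SzG → ℂ) y)) ∧
    (∑ χ ∈ others F m, (χ : SzG → ℂ) y * conj ((χ : SzG → ℂ) (uEl P 0 1)) =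
      (2 * (2 : ℂ) ^ m - 1) * T.E.card * e - (2 * (2 : ℂ) ^ m + 1) * ∑ χ ∈ T.D, (χ : SzG → ℂ) y -
        (2 : ℂ) ^ m * ∑ χ ∈ T.W, (χ : SzG → ℂ) y) ∧
    (∑ χ ∈ others F m, (χ : SzG → ℂ) y * conj ((χ : SzG → ℂ) x) = e + ∑ χ ∈ T.W, (χ : SzG → ℂ) y) := by
  obtain ⟨hD, hW, hE, -⟩ := T.atA P hF hm hx hc
  have hq : ((Fintype.card F - 1 : ℕ) : ℂ) = 2 * ((2 : ℂ) ^ m) ^ 2 - 1 := by
    rw [Nat.cast_sub Fintype.card_pos, hF]; push_cast; ring
  have hA : (toA m : ℂ) = 2 * ((2 : ℂ) ^ m) ^ 2 + 2 * (2 : ℂ) ^ m + 1 := by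
    have := congrArg (fun z : ℤ => (z : ℂ)) (cast_toA (m := m)); push_cast at this; exact this
  have hB : (toB m : ℂ) = 2 * ((2 : ℂ) ^ m) ^ 2 - 2 * (2 : ℂ) ^ m + 1 := by
    have := congrArg (fun z : ℤ => (z : ℂ)) (cast_toB (m := m)); push_cast at this; exact this
  have hd : ∀ χ : IrrCharacter SzG, conj ((χ : SzG → ℂ) 1) = (charDegree (χ : SzG → ℂ) : ℂ) := fun χ => by
    rw [CfsgLib.Chars17.conj_irr_one, CfsgLib.Chars17.cast_irrDegree]
  refine ⟨?_, ?_, ?_⟩ <;> rw [T.sum_eq P]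
  · have sE : ∑ χ ∈ T.E, (χ : SzG → ℂ) y * conj ((χ : SzG → ℂ) 1) = T.E.card * (e * (((((Fintype.card F - 1) * toB m) : ℕ) : ℂ))) := by
      rw [← nsmul_eq_mul, ← Finset.sum_const]
      exact Finset.sum_congr rfl fun χ hχ => by rw [he χ hχ, hd, T.degE χ hχ]
    have sD : ∑ χ ∈ T.D, (χ : SzG → ℂ) y * conj ((χ : SzG → ℂ) 1) = (∑ χ ∈ T.D, (χ : SzG → ℂ) y) * (((((Fintype.card F - 1) * toA m) : ℕ) : ℂ)) := by
      rw [Finset.sum_mul]
      exact Finset.sum_congr rfl fun χ hχ => by rw [hd, T.degD χ hχ]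
    have sW : ∑ χ ∈ T.W, (χ : SzG → ℂ) y * conj ((χ : SzG → ℂ) 1) = (∑ χ ∈ T.W, (χ : SzG → ℂ) y) * (((((Fintype.card F - 1) * 2 ^ m) : ℕ) : ℂ)) := by
      rw [Finset.sum_mul]
      exact Finset.sum_congr rfl fun χ hχ => by rw [hd, T.degW χ hχ]
    rw [sE, sD, sW]
    push_cast
    rw [hq, hA, hB]
    ring
  · have sE : ∑ χ ∈ T.E, (χ : SzG → ℂ) y * conj ((χ : SzG → ℂ) (uEl P 0 1)) = T.E.card * (e * (conj (2 * (2 : ℂ) ^ m - 1))) := by
      rw [← nsmul_eq_mul, ← Finset.sum_const]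
      exact Finset.sum_congr rfl fun χ hχ => by rw [he χ hχ, T.zE χ hχ]
    have sD : ∑ χ ∈ T.D, (χ : SzG → ℂ) y * conj ((χ : SzG → ℂ) (uEl P 0 1)) = (∑ χ ∈ T.D, (χ : SzG → ℂ) y) * (conj (-(2 * (2 : ℂ) ^ m + 1))) := by
      rw [Finset.sum_mul]
      exact Finset.sum_congr rfl fun χ hχ => by rw [T.zD χ hχ]
    have sW : ∑ χ ∈ T.W, (χ : SzG → ℂ) y * conj ((χ : SzG → ℂ) (uEl P 0 1)) = (∑ χ ∈ T.W, (χ : SzG → ℂ) y) * (conj (-(2 : ℂ) ^ m)) := by
      rw [Finset.sum_mul]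
      exact Finset.sum_congr rfl fun χ hχ => by rw [T.zW χ hχ]
    rw [sE, sD, sW]
    simp only [map_sub, map_neg, map_add, map_mul, map_ofNat, map_pow, map_one]
    ring
  · have sE : ∑ χ ∈ T.E, (χ : SzG → ℂ) y * conj ((χ : SzG → ℂ) x) = e := by
      rw [Finset.sum_congr rfl (g := fun χ : IrrCharacter SzG => e * conj ((χ : SzG → ℂ) x)) (fun χ hχ => by rw [he χ hχ]),
        ← Finset.mul_sum, ← map_sum, hE, map_one, mul_one]
    have sD : ∑ χ ∈ T.D, (χ : SzG → ℂ) y * conj ((χ : SzG → ℂ) x) = 0 :=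
      Finset.sum_eq_zero fun χ hχ => by rw [hD χ hχ, map_zero, mul_zero]
    have sW : ∑ χ ∈ T.W, (χ : SzG → ℂ) y * conj ((χ : SzG → ℂ) x) = ∑ χ ∈ T.W, (χ : SzG → ℂ) y :=
      Finset.sum_congr rfl fun χ hχ => by rw [hW χ hχ, map_one, mul_one]
    rw [sE, sD, sW, add_zero]

include hF hm in
theorem hqC' : (Fintype.card F : ℂ) = 2 * ((2 : ℂ) ^ m) ^ 2 := by
  rw [hF]; push_cast; ring

include hF hm in
/-- The values at an element of order four. -/
theorem Data.atU (ha : FPF a) (hca : Nat.card ↥(Subgroup.centralizer ({a} : Set SzG)) = toA m)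
    {u : SzG} (hu : u ∈ unip P) (ho : orderOf u = 4) :
    (∀ χ ∈ T.E, (χ : SzG → ℂ) u = -1) ∧ (∀ χ ∈ T.D, (χ : SzG → ℂ) u = -1) ∧
    (∑ χ ∈ T.W, (χ : SzG → ℂ) u = 0) ∧
    ∀ χ ∈ T.W, (χ : SzG → ℂ) u ^ 2 = -((2 : ℂ) ^ m) ^ 2 := by
  classical
  have hu1 : u ≠ 1 := fun e => by rw [e, orderOf_one] at ho; omega
  have h4 : orderOf u ∣ 4 := by rw [ho]
  have hoA : Odd (Nat.card ↥(Subgroup.centralizer ({a} : Set SzG))) := hca ▸ odd_toA hm
  obtain ⟨e₀, he₀⟩ : T.E.Nonempty := Finset.card_pos.1 (by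
    have := T.cardE
    have : (2 : ℤ) ≤ 2 ^ m := le_self_pow₀ (by norm_num) (by omega)
    nlinarith)
  set e := (e₀ : SzG → ℂ) u
  have he : ∀ χ ∈ T.E, (χ : SzG → ℂ) u = e := fun χ hχ =>
    T.agreeE χ hχ e₀ he₀ u fun w hw => two_elt_avoids P hF hoA h4 hw
  obtain ⟨q1, q2, q3⟩ := T.three_sums P hF hm ha hca (y := u) he
  have hpu : ∀ l : Lin F, PS (m := m) l u = 1 := fun l => PS_unip P hF hm l hu hu1
  have hpz : ∀ l : Lin F, PS (m := m) l (uEl P 0 1) = 1 := fun l =>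
    PS_unip P hF hm l ⟨0, 1, rfl⟩ (z_ne_one P hF hm)
  have c1 := others_sum P hF hm u 1 _ _ hpu (fun l => PS_one P l)
  have c2 := others_sum P hF hm u (uEl P 0 1) _ _ hpu hpz
  have c3 := others_sum P hF hm u a _ _ hpu (fun l => PS_fpf l ha)
  have c4 := others_sum P hF hm u u⁻¹ _ _ hpu
    (fun l => PS_unip P hF hm l (inv_mem hu) (inv_ne_one.2 hu1))
  rw [if_neg (fun h => hu1 (isConj_one_left.1 h)), q1] at c1
  rw [if_neg (fun h => by
    obtain ⟨c, hc⟩ := isConj_iff.1 h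
    have h2 := orderOf_injective (MulAut.conj c).toMonoidHom (MulAut.conj c).injective u
    simp only [MulEquiv.coe_toMonoidHom, MulAut.conj_apply] at h2
    rw [hc, orderOf_uEl_zero P one_ne_zero, ho] at h2
    omega), q2] at c2
  rw [if_neg (fun h => not_isConj_fpf P ha (unip_le_borel P hu) h.symm), q3] at c3
  rw [if_neg (not_isConj_inv_four P hu ho)] at c4
  simp only [irr_apply_inv, Complex.conj_conj] at c4
  simp only [map_sub, map_add, map_pow, map_natCast, map_one, map_zero, sub_self, zero_mul, mul_zero,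
    sub_zero, mul_one, one_mul, zero_sub] at c1 c2 c3 c4
  simp only [hqC' hF hm] at c1 c2 c3 c4
  set t : ℂ := (2 : ℂ) ^ m with htdef
  have htn : t ≠ 0 := pow_ne_zero _ two_ne_zero
  have hK : 2 * (T.E.card : ℂ) = t ^ 2 + t := by
    have := congrArg (fun z : ℤ => (z : ℂ)) T.cardE; push_cast at this; exact this
  have hL : 2 * (T.D.card : ℂ) = t ^ 2 - t := by
    have := congrArg (fun z : ℤ => (z : ℂ)) T.cardD; push_cast at this; exact this
  have hq1 : 2 * t ^ 2 - 1 ≠ 0 := by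
    intro h
    have h' : ((2 * (2 ^ m) ^ 2 : ℕ) : ℂ) = ((1 : ℕ) : ℂ) := by push_cast; linear_combination h
    have := Nat.cast_inj.1 h'
    omega
  have hA0 : 2 * t ^ 2 + 2 * t + 1 ≠ 0 := by
    intro h
    have h' : ((2 * (2 ^ m) ^ 2 + 2 * 2 ^ m + 1 : ℕ) : ℂ) = ((0 : ℕ) : ℂ) := by push_cast; linear_combination h
    have := Nat.cast_inj.1 h'
    omega
  set SD := ∑ χ ∈ T.D, (χ : SzG → ℂ) u
  set SW := ∑ χ ∈ T.W, (χ : SzG → ℂ) u
  set K := (T.E.card : ℂ)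
  have d1 : K * e * (2 * t ^ 2 - 2 * t + 1) + (2 * t ^ 2 + 2 * t + 1) * SD + t * SW =
      -(t ^ 2 * (2 * t ^ 2 - 1)) := mul_left_cancel₀ hq1 (by linear_combination c1 / 2)
  have d3 : SW = -1 - e := by linear_combination c3 / 2
  have d2 : K * e + SD = -t ^ 2 :=
    mul_left_cancel₀ (show (2 * t ^ 2 : ℂ) ≠ 0 from mul_ne_zero two_ne_zero (pow_ne_zero _ htn))
      (by linear_combination d1 + c2 / 2)
  have hee : e = -1 := mul_left_cancel₀ (mul_ne_zero htn hA0)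
    (by linear_combination c2 / 2 + (2 * t + 1) * d2 + t * d3 - 2 * t * e * hK)
  have hsw : SW = 0 := by rw [d3, hee]; ring
  have hsd : SD = -(T.D.card : ℂ) := by linear_combination d2 - e * 0 - K * hee + hK / 2 + hL / 2
  obtain ⟨d₀, hd₀⟩ : T.D.Nonempty := Finset.card_pos.1 (by
    have := T.cardD
    have : (2 : ℤ) ≤ 2 ^ m := le_self_pow₀ (by norm_num) (by omega)
    by_contra h0
    have : (T.D.card : ℤ) = 0 := by omega
    nlinarith)
  have hdall : ∀ χ ∈ T.D, (χ : SzG → ℂ) u = -1 := by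
    intro χ hχ
    have hs : SD = (T.D.card : ℂ) * (χ : SzG → ℂ) u := by
      rw [← nsmul_eq_mul, ← Finset.sum_const]
      exact Finset.sum_congr rfl fun ξ hξ => T.agreeD ξ hξ χ hχ u h4
    rw [hsd] at hs
    have hne : (T.D.card : ℂ) ≠ 0 := Nat.cast_ne_zero.2 (Finset.card_pos.2 ⟨χ, hχ⟩).ne'
    exact mul_left_cancel₀ hne (by linear_combination -hs)
  refine ⟨fun χ hχ => (he χ hχ).trans hee, hdall, hsw, fun χ hχ => ?_⟩
  obtain ⟨w, w', hww, hWs⟩ := Finset.card_eq_two.1 T.cardW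
  rw [T.sum_eq P, Finset.sum_congr rfl (s₁ := T.E) (g := fun _ => (-1 : ℂ) * -1)
      (fun ξ hξ => by rw [he ξ hξ, hee]),
    Finset.sum_congr rfl (s₁ := T.D) (g := fun _ => (-1 : ℂ) * -1) (fun ξ hξ => by rw [hdall ξ hξ]), Finset.sum_const, Finset.sum_const,
    hWs, Finset.sum_pair hww] at c4
  simp only [nsmul_eq_mul] at c4
  have hsum : (w : SzG → ℂ) u + (w' : SzG → ℂ) u = 0 := by
    rw [← hsw]; simp only [SW, hWs, Finset.sum_pair hww]
  have hK' : K = (T.E.card : ℂ) := rfl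
  rw [hWs, Finset.mem_insert, Finset.mem_singleton] at hχ
  rcases hχ with rfl | rfl
  · linear_combination c4 / 4 - ((w' : SzG → ℂ) u - (χ : SzG → ℂ) u) / 2 * hsum - (1 / 4 : ℂ) * hK - (1 / 4 : ℂ) * hL
  · linear_combination c4 / 4 - ((w : SzG → ℂ) u - (χ : SzG → ℂ) u) / 2 * hsum - (1 / 4 : ℂ) * hK - (1 / 4 : ℂ) * hL

include hF hm in
/-- The values at an element with a torus of order `q - r + 1` as centraliser. -/
theorem Data.atB (ha : FPF a) (hca : Nat.card ↥(Subgroup.centralizer ({a} : Set SzG)) = toA m)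
    {b : SzG} (hb : FPF b) (hcb : Nat.card ↥(Subgroup.centralizer ({b} : Set SzG)) = toB m) :
    (∀ χ ∈ T.E, (χ : SzG → ℂ) b = 0) ∧ (∀ χ ∈ T.W, (χ : SzG → ℂ) b = -1) ∧
    ∑ χ ∈ T.D, ‖(χ : SzG → ℂ) b‖ ^ 2 = (toB m : ℝ) - 4 := by
  classical
  obtain ⟨hne, -, -⟩ := tori_ne (m := m) hm
  obtain ⟨e₀, he₀⟩ : T.E.Nonempty := Finset.card_pos.1 (by
    have := T.cardE
    have : (2 : ℤ) ≤ 2 ^ m := le_self_pow₀ (by norm_num) (by omega)
    nlinarith)
  set e := (e₀ : SzG → ℂ) b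
  have he : ∀ χ ∈ T.E, (χ : SzG → ℂ) b = e := fun χ hχ => T.agreeE χ hχ e₀ he₀ b fun w hw => by
    by_contra h1
    have h := (fpf_of_mem P hF hm ha hw h1).2
    have hcc : Nat.card ↥(Subgroup.centralizer ({w⁻¹ * b * w} : Set SzG)) =
        Nat.card ↥(Subgroup.centralizer ({b} : Set SzG)) := by
      simpa using card_centralizer_conj w⁻¹ b
    rw [hcc, hca, hcb] at h
    exact hne h.symm
  obtain ⟨q1, q2, q3⟩ := T.three_sums P hF hm ha hca (y := b) he
  have hpb : ∀ l : Lin F, PS (m := m) l b = 0 := fun l => PS_fpf l hb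
  have hnc : ¬ IsConj b a := fun h => by
    obtain ⟨c, hc⟩ := isConj_iff.1 h
    rw [← hc, card_centralizer_conj, hcb] at hca
    exact hne hca.symm
  have c1 := others_sum P hF hm b 1 _ _ hpb (fun l => PS_one P l)
  have c2 := others_sum P hF hm b (uEl P 0 1) _ _ hpb
    (fun l => PS_unip P hF hm l ⟨0, 1, rfl⟩ (z_ne_one P hF hm))
  have c3 := others_sum P hF hm b a _ _ hpb (fun l => PS_fpf l ha)
  have c4 := others_sum P hF hm b b _ _ hpb hpb
  rw [if_neg (fun h => hb.ne_one (isConj_one_left.1 h)), q1] at c1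
  rw [if_neg (fun h => not_isConj_fpf P hb (uEl_mem_borel P 0 1) h), q2] at c2
  rw [if_neg hnc, q3] at c3
  rw [if_pos (IsConj.refl _), hcb] at c4
  simp only [map_sub, map_add, map_pow, map_natCast, map_one, map_zero, sub_self, zero_mul, mul_zero,
    sub_zero, mul_one, one_mul, zero_sub, map_neg] at c1 c2 c3 c4
  simp only [hqC' hF hm] at c1 c2 c3 c4
  set t : ℂ := (2 : ℂ) ^ m with htdef
  have htn : t ≠ 0 := pow_ne_zero _ two_ne_zero
  have hK : 2 * (T.E.card : ℂ) = t ^ 2 + t := by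
    have := congrArg (fun z : ℤ => (z : ℂ)) T.cardE; push_cast at this; exact this
  have hq1 : 2 * t ^ 2 - 1 ≠ 0 := by
    intro h
    have h' : ((2 * (2 ^ m) ^ 2 : ℕ) : ℂ) = ((1 : ℕ) : ℂ) := by push_cast; linear_combination h
    have := Nat.cast_inj.1 h'
    omega
  have hA0 : 2 * t ^ 2 + 2 * t + 1 ≠ 0 := by
    intro h
    have h' : ((2 * (2 ^ m) ^ 2 + 2 * 2 ^ m + 1 : ℕ) : ℂ) = ((0 : ℕ) : ℂ) := by push_cast; linear_combination h
    have := Nat.cast_inj.1 h'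
    omega
  set SD := ∑ χ ∈ T.D, (χ : SzG → ℂ) b
  set SW := ∑ χ ∈ T.W, (χ : SzG → ℂ) b with hSW
  set K := (T.E.card : ℂ)
  have d1 : K * e * (2 * t ^ 2 - 2 * t + 1) + (2 * t ^ 2 + 2 * t + 1) * SD + t * SW = 2 * t ^ 2 + 1 :=
    mul_left_cancel₀ hq1 (by linear_combination c1 / 2)
  have d3 : SW = -2 - e := by linear_combination c3 / 2
  have d2 : K * e + SD = 1 :=
    mul_left_cancel₀ (show (2 * t ^ 2 : ℂ) ≠ 0 from mul_ne_zero two_ne_zero (pow_ne_zero _ htn))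
      (by linear_combination d1 + c2 / 2)
  have hee : e = 0 := mul_left_cancel₀ (mul_ne_zero htn hA0)
    (by linear_combination c2 / 2 + (2 * t + 1) * d2 + t * d3 - 2 * t * e * hK)
  -- the two characters of degree `(q - 1) 2^m` are complex conjugate
  obtain ⟨-, -, -, hwu⟩ := T.atU P hF hm ha hca (u := uEl P 1 0) ⟨1, 0, rfl⟩ (orderOf_uEl P 0 one_ne_zero)
  obtain ⟨w, w', hww, hWs⟩ := Finset.card_eq_two.1 T.cardW
  have hconj : CfsgLib.BrauerPerm.conjIrr w = w' := by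
    have hwW : w ∈ T.W := by rw [hWs]; simp
    obtain ⟨hwO, hwd⟩ := (T.mem_iff P hm w).2.2.1 hwW
    set χ := CfsgLib.BrauerPerm.conjIrr w with hχ
    have hdeg : charDegree (χ : SzG → ℂ) = (Fintype.card F - 1) * 2 ^ m := by
      rw [← hwd]
      unfold charDegree
      show ⌊(conj ((w : SzG → ℂ) 1)).re⌋₊ = _
      rw [Complex.conj_re]
    have hO : χ ∈ others F m := by
      refine mem_others.2 ⟨fun h => ?_, fun h => ?_, fun l hl h => ?_⟩
      · obtain ⟨h1, -, -⟩ := mem_others.1 hwO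
        refine h1 (funext fun g => ?_)
        have := congrFun h g
        exact (Complex.conj_conj _).symm.trans ((congrArg conj this).trans (map_one _))
      · have := CfsgLib.Chars17.cast_irrDegree χ
        rw [hdeg, h, Pi.sub_apply, PS_one P, add_sub_cancel_right, hqC' hF hm] at this
        push_cast [Nat.cast_sub (Fintype.card_pos (α := F)), hqC' hF hm] at this
        have h' : t * (2 * t ^ 2 - 1) = t * (4 * t ^ 3) := by linear_combination this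
        have h'' := mul_left_cancel₀ htn h'
        have e' : ((2 * (2 ^ m) ^ 2 : ℕ) : ℂ) = ((4 * (2 ^ m) ^ 3 + 1 : ℕ) : ℂ) := by
          push_cast; linear_combination h''
        have := Nat.cast_inj.1 e'
        omega
      · have := CfsgLib.Chars17.cast_irrDegree χ
        rw [hdeg, h, PS_one P, hqC' hF hm] at this
        push_cast [Nat.cast_sub (Fintype.card_pos (α := F)), hqC' hF hm] at this
        have e' : (((2 * (2 ^ m) ^ 2 - 1) * 2 ^ m : ℕ) : ℂ) = (((2 * (2 ^ m) ^ 2) ^ 2 + 1 : ℕ) : ℂ) := by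
          rw [Nat.cast_mul, Nat.cast_sub (Nat.one_le_iff_ne_zero.2 (by positivity))]
          push_cast; linear_combination this
        have := Nat.cast_inj.1 e'
        have he2 : 2 ∣ (2 * (2 ^ m) ^ 2 - 1) * 2 ^ m := (dvd_pow_self 2 (by omega)).mul_left _
        rw [this] at he2
        have : 2 ∣ (2 * (2 ^ m) ^ 2) ^ 2 := (dvd_mul_right 2 _).trans (dvd_pow_self _ two_ne_zero)
        omega
    have hmem := (T.mem_iff P hm χ).2.2.2 ⟨hO, hdeg⟩
    rw [hWs, Finset.mem_insert, Finset.mem_singleton] at hmem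
    refine hmem.resolve_left fun h => ?_
    have hreal : conj ((w : SzG → ℂ) (uEl P 1 0)) = (w : SzG → ℂ) (uEl P 1 0) :=
      congrFun (congrArg Subtype.val h) _
    have h2 := hwu w hwW
    obtain ⟨r, hr⟩ := Complex.conj_eq_iff_real.1 hreal
    rw [hr] at h2
    have h3 : r ^ 2 = -((2 : ℝ) ^ m) ^ 2 := by exact_mod_cast h2
    have : (0 : ℝ) < ((2 : ℝ) ^ m) ^ 2 := by positivity
    nlinarith [sq_nonneg r]
  have hw2 : (w' : SzG → ℂ) b = (w : SzG → ℂ) b := by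
    rw [← hconj]
    exact real_fpf P hF hm hb w
  have hWb : ∀ χ ∈ T.W, (χ : SzG → ℂ) b = -1 := by
    intro χ hχ
    have hs : 2 * (w : SzG → ℂ) b = -2 := by
      rw [hSW, hWs, Finset.sum_pair hww, hw2] at d3
      linear_combination d3 - hee
    have hwb : (w : SzG → ℂ) b = -1 := by linear_combination hs / 2
    rw [hWs, Finset.mem_insert, Finset.mem_singleton] at hχ
    rcases hχ with rfl | rfl
    · exact hwb
    · rw [hw2, hwb]
  refine ⟨fun χ hχ => (he χ hχ).trans hee, hWb, ?_⟩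
  rw [T.sum_eq P, Finset.sum_congr rfl (s₁ := T.E) (g := fun _ => (0 : ℂ)) (fun χ hχ => by rw [he χ hχ, hee, zero_mul]),
    Finset.sum_congr rfl (s₁ := T.W) (g := fun _ => (1 : ℂ)) (fun χ hχ => by
      rw [hWb χ hχ]; simp), Finset.sum_const, Finset.sum_const, T.cardW] at c4
  simp only [Complex.mul_conj'] at c4
  have h : ((∑ χ ∈ T.D, ‖(χ : SzG → ℂ) b‖ ^ 2 : ℝ) : ℂ) = (((toB m : ℝ) - 4 : ℝ) : ℂ) := by
    push_cast
    simp at c4
    linear_combination c4 / 2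
  exact_mod_cast h

end CfsgLib.SuzukiChars
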