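import Mathlib.Algebra.Order.BigOperators.Ring.Finset
import Mathlib.Tactic.LinearCombination
import Mathlib.Tactic.IntervalCases
import Mathlib.Tactic.Linarith
import Mathlib.Tactic.Ring

/-!
# The arithmetic of the character degrees of the Suzuki group

`t = 2^m`, the field has `2 t^2` elements and the two exotic tori have orders `2 t^2 ± 2 t + 1`.
-/

set_option autoImplicit false

namespace CfsgLib.SuzukiChars

theorem cong_lift {t v X : ℤ} (h : (2 * t ^ 2 + 2 * t + 1) ∣ (2 * t ^ 2 - 1) * v - X) :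
    (2 * t ^ 2 + 2 * t + 1) ∣ v - t * X := by
  obtain ⟨j, hj⟩ := h
  exact ⟨t * j - (t - 1) * v, by linear_combination t * hj⟩

theorem abs_lt_of_sq {w b : ℤ} (hb : 0 ≤ b) (h : w ^ 2 < b ^ 2) : -b < w ∧ w < b := by
  constructor <;> nlinarith

variable {ι : Type*} [DecidableEq ι]

theorem sign_cases {k c ε : ℤ} (hk : 3 ≤ k) (hε : ε = 1 ∨ ε = -1) (h : k * c ^ 2 - 2 * ε * c ≤ 2) :
    c = 0 ∨ c = ε := by
  have h3 : 3 * c ^ 2 - 2 * ε * c ≤ 2 := by nlinarith [mul_le_mul_of_nonneg_right hk (sq_nonneg c)]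
  rcases hε with rfl | rfl
  · have h1 : c ≤ 1 := by nlinarith
    have h2 : 0 ≤ c := by nlinarith
    omega
  · have h1 : -1 ≤ c := by nlinarith
    have h2 : c ≤ 0 := by nlinarith
    omega

/-- The degree of the first family, up to one exception for `t = 2`. -/
theorem degree_cases {t v s ε : ℤ} (ht : t = 2 ∨ 4 ≤ t) (hs : s = 0 ∨ s = 1) (hε : ε = 1 ∨ ε = -1)
    (hv : 0 < v) (hw : (t + 1) * (2 * t ^ 2 * s - v) ^ 2 ≤ 8 * t ^ 3 - 2 * t)
    (hcong : (2 * t ^ 2 + 2 * t + 1) ∣ v - t * (4 * ε)) :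
    (s = 1 ∧ ε = -1 ∧ v = 2 * t ^ 2 - 2 * t + 1) ∨ (t = 2 ∧ s = 1 ∧ ε = 1) := by
  obtain ⟨j, hj⟩ := hcong
  rcases ht with rfl | ht
  · rcases hs with rfl | rfl
    · norm_num at hw hj
      have hv4 : v ≤ 4 := by nlinarith
      rcases hε with rfl | rfl <;> omega
    · norm_num at hw hj
      have hv12 : 4 ≤ v ∧ v ≤ 12 := by constructor <;> nlinarith
      rcases hε with rfl | rfl
      · exact Or.inr ⟨rfl, rfl, rfl⟩
      · exact Or.inl ⟨rfl, rfl, by norm_num; omega⟩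
  · obtain ⟨w1, w2⟩ := abs_lt_of_sq (b := 3 * t) (by linarith)
      (show (2 * t ^ 2 * s - v) ^ 2 < (3 * t) ^ 2 by
        by_contra hc
        push Not at hc
        have := mul_le_mul_of_nonneg_left hc (show (0 : ℤ) ≤ t + 1 by linarith)
        nlinarith)
    have ha : 10 * t < 2 * t ^ 2 + 2 * t + 1 := by
      have := mul_le_mul_of_nonneg_right ht (show (0 : ℤ) ≤ t by linarith)
      linarith
    set A := 2 * t ^ 2 + 2 * t + 1 with hA
    have hu : ∀ (u : ℤ) (j' : ℤ), u = A * j' → -A < u → u < A → j' = 0 := by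
      intro u j' hu h1 h2
      by_contra h0
      rcases lt_or_gt_of_ne h0 with h | h
      · have := mul_le_mul_of_nonneg_left (show j' ≤ -1 by omega) (show 0 ≤ A by linarith)
        linarith
      · have := mul_le_mul_of_nonneg_left (show 1 ≤ j' by omega) (show 0 ≤ A by linarith)
        linarith
    rcases hs with rfl | rfl
    · simp only [mul_zero, zero_sub] at w1 w2
      rcases hε with rfl | rfl
      · have := hu (v - 4 * t) j (by linarith) (by linarith) (by linarith)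
        subst this
        linarith
      · have := hu (v + 4 * t) j (by linarith) (by linarith) (by linarith)
        subst this
        linarith
    · simp only [mul_one] at w1 w2
      rcases hε with rfl | rfl
      · exfalso
        have h := hu (v - 4 * t - A) (j - 1) (by linear_combination hj) (by linarith) (by linarith)
        have : j = 1 := by omega
        subst this
        linarith
      · have h := hu (v + 4 * t - A) (j - 1) (by linear_combination hj) (by linarith) (by linarith)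
        have : j = 1 := by omega
        subst this
        exact Or.inl ⟨rfl, rfl, by linarith⟩

/-- The exceptional case `c = ε` for `t = 2` does not occur. -/
theorem no_eps_case (R : Finset ι) (v s C : ι → ℤ) {v₀ s₀ c : ℤ} (hv₀pos : 0 < v₀)
    (hs : s₀ = 0 ∨ s₀ = 1) (hc : c = 1 ∨ c = -1)
    (hw : 3 * (8 * s₀ - v₀) ^ 2 ≤ 60) (hcong : (13 : ℤ) ∣ v₀ - 2 * (c + 4 * c))
    (C2 : ∑ i ∈ R, C i ^ 2 = 1) (e1 : 2 * c * v₀ + ∑ i ∈ R, C i * v i = 9)
    (e2 : 2 * c * s₀ + ∑ i ∈ R, C i * s i = 1)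
    (R1 : ∑ i ∈ R, v i ^ 2 = 252 - 3 * v₀ ^ 2)
    (R2 : ∑ i ∈ R, v i * s i = 28 - 3 * (v₀ * s₀)) : False := by
  obtain ⟨j, hj⟩ := hcong
  rcases hs with rfl | rfl
  · norm_num at hw e2 R2
    have hv4 : v₀ ≤ 4 := by nlinarith
    rcases hc with rfl | rfl
    · omega
    · have hv3 : v₀ = 3 := by omega
      subst hv3
      norm_num at e1 R1
      have hz : ∑ i ∈ R, (v i - 15 * C i) ^ 2 = 0 := by
        trans ∑ i ∈ R, v i ^ 2 - 30 * ∑ i ∈ R, C i * v i + 225 * ∑ i ∈ R, C i ^ 2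
        · rw [Finset.mul_sum, Finset.mul_sum, ← Finset.sum_sub_distrib, ← Finset.sum_add_distrib]
          exact Finset.sum_congr rfl fun i _ => by ring
        · linarith
      have hp := (Finset.sum_eq_zero_iff_of_nonneg fun i _ => sq_nonneg _).1 hz
      have h15 : ∑ i ∈ R, v i * s i = 15 * ∑ i ∈ R, C i * s i := by
        rw [Finset.mul_sum]
        refine Finset.sum_congr rfl fun i hi => ?_
        have := pow_eq_zero_iff two_ne_zero |>.1 (hp i hi)
        linear_combination (s i) * this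
      linarith
  · norm_num at hw R2
    have hv12 : 4 ≤ v₀ ∧ v₀ ≤ 12 := by constructor <;> nlinarith
    rcases hc with rfl | rfl
    · have hv10 : v₀ = 10 := by omega
      subst hv10
      have : 0 ≤ ∑ i ∈ R, v i ^ 2 := Finset.sum_nonneg fun i _ => sq_nonneg _
      linarith
    · omega

/-- The first exceptional family. -/
theorem first_family {t : ℤ} (ht : t = 2 ∨ 4 ≤ t) (O E : Finset ι) (hE : E ⊆ O) (v s C : ι → ℤ)
    (hv : ∀ i ∈ O, 0 < v i) (hs : ∀ i ∈ O, 0 ≤ s i)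
    (S1 : ∑ i ∈ O, v i ^ 2 = t ^ 2 * (4 * t ^ 4 - 1))
    (S2 : ∑ i ∈ O, v i * s i = t ^ 2 * (2 * t ^ 2 - 1))
    (S3 : ∑ i ∈ O, s i ^ 2 = t ^ 2)
    {v₀ s₀ c ε : ℤ} (hv₀ : ∀ i ∈ E, v i = v₀) (hs₀ : ∀ i ∈ E, s i = s₀)
    (hk : 2 * (E.card : ℤ) = t ^ 2 + t) (hε : ε = 1 ∨ ε = -1)
    (hC2 : ∑ i ∈ O \ E, C i ^ 2 + E.card * c ^ 2 - 2 * ε * c = 2)
    (e1 : v₀ * (E.card * c - ε) + ∑ i ∈ O \ E, C i * v i = 2 * t ^ 2 + 1)
    (e2 : s₀ * (E.card * c - ε) + ∑ i ∈ O \ E, C i * s i = 1)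
    (cg : (2 * t ^ 2 + 2 * t + 1) ∣ (2 * t ^ 2 - 1) * v₀ - c - 4 * ε)
    (cgR : ∀ i ∈ O \ E, (2 * t ^ 2 + 2 * t + 1) ∣ (2 * t ^ 2 - 1) * v i - C i) :
    (s₀ = 1 ∧ v₀ = 2 * t ^ 2 - 2 * t + 1 ∧ c = 0 ∧ ε = -1) ∧
    (∀ i ∈ O \ E, v i - (2 * t ^ 2 + 2 * t + 1) * s i = t * C i ∧ -1 ≤ C i ∧ C i ≤ 1) ∧
    ∑ i ∈ O \ E, C i ^ 2 = 2 ∧ ∑ i ∈ O \ E, C i * s i = 0 ∧
    2 * ∑ i ∈ O \ E, s i ^ 2 = t ^ 2 - t := by
  set A := 2 * t ^ 2 + 2 * t + 1 with hA
  set k := (E.card : ℤ) with hkdef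
  have split : ∀ f : ι → ℤ, ∑ i ∈ O, f i = ∑ i ∈ O \ E, f i + ∑ i ∈ E, f i := fun f =>
    (Finset.sum_sdiff hE).symm
  have R1 : ∑ i ∈ O \ E, v i ^ 2 = t ^ 2 * (4 * t ^ 4 - 1) - k * v₀ ^ 2 := by
    have h : ∑ i ∈ E, v i ^ 2 = k * v₀ ^ 2 := by
      rw [Finset.sum_congr rfl (g := fun _ => v₀ ^ 2) (fun i hi => by rw [hv₀ i hi]), Finset.sum_const,
        nsmul_eq_mul, hkdef]
    linarith [split fun i => v i ^ 2]
  have R2 : ∑ i ∈ O \ E, v i * s i = t ^ 2 * (2 * t ^ 2 - 1) - k * (v₀ * s₀) := by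
    have h : ∑ i ∈ E, v i * s i = k * (v₀ * s₀) := by
      rw [Finset.sum_congr rfl (g := fun _ => v₀ * s₀) (fun i hi => by rw [hv₀ i hi, hs₀ i hi]),
        Finset.sum_const, nsmul_eq_mul, hkdef]
    linarith [split fun i => v i * s i]
  have R3 : ∑ i ∈ O \ E, s i ^ 2 = t ^ 2 - k * s₀ ^ 2 := by
    have h : ∑ i ∈ E, s i ^ 2 = k * s₀ ^ 2 := by
      rw [Finset.sum_congr rfl (g := fun _ => s₀ ^ 2) (fun i hi => by rw [hs₀ i hi]), Finset.sum_const,
        nsmul_eq_mul, hkdef]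
    linarith [split fun i => s i ^ 2]
  have ht2 : 2 ≤ t := by omega
  have hk3 : 3 ≤ k := by nlinarith
  obtain ⟨e, he⟩ : E.Nonempty := Finset.card_pos.1 (by omega)
  have hv₀pos : 0 < v₀ := hv₀ e he ▸ hv e (hE he)
  have hs₀nn : 0 ≤ s₀ := hs₀ e he ▸ hs e (hE he)
  have hs₀01 : s₀ = 0 ∨ s₀ = 1 := by
    have h : k * s₀ ^ 2 ≤ t ^ 2 := by
      linarith [Finset.sum_nonneg (s := O \ E) fun i _ => sq_nonneg (s i)]
    by_contra hc
    push Not at hc
    have h4 : 4 ≤ s₀ ^ 2 := by nlinarith [show 2 ≤ s₀ by omega]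
    have := mul_le_mul_of_nonneg_left h4 (show 0 ≤ k by linarith)
    nlinarith
  have hw : (t + 1) * (2 * t ^ 2 * s₀ - v₀) ^ 2 ≤ 8 * t ^ 3 - 2 * t := by
    have h : 0 ≤ ∑ i ∈ O \ E, (2 * t ^ 2 * s i - v i) ^ 2 := Finset.sum_nonneg fun i _ => sq_nonneg _
    have e : ∑ i ∈ O \ E, (2 * t ^ 2 * s i - v i) ^ 2 =
        (2 * t ^ 2) ^ 2 * ∑ i ∈ O \ E, s i ^ 2 - 2 * (2 * t ^ 2) * ∑ i ∈ O \ E, v i * s i +
          ∑ i ∈ O \ E, v i ^ 2 := by
      rw [Finset.mul_sum, Finset.mul_sum, ← Finset.sum_sub_distrib, ← Finset.sum_add_distrib]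
      exact Finset.sum_congr rfl fun i _ => by ring
    rw [e, R1, R2, R3] at h
    have e2 : k * (2 * t ^ 2 * s₀ - v₀) ^ 2 ≤ 4 * t ^ 4 - t ^ 2 := by linarith
    refine le_of_mul_le_mul_left ?_ (show 0 < t by linarith)
    calc t * ((t + 1) * (2 * t ^ 2 * s₀ - v₀) ^ 2) = 2 * k * (2 * t ^ 2 * s₀ - v₀) ^ 2 := by
          rw [hk]; ring
      _ ≤ t * (8 * t ^ 3 - 2 * t) := by linarith
  have hcong := cong_lift (show A ∣ (2 * t ^ 2 - 1) * v₀ - (c + 4 * ε) by rwa [← sub_sub])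
  have hC2nn : 0 ≤ ∑ i ∈ O \ E, C i ^ 2 := Finset.sum_nonneg fun i _ => sq_nonneg _
  have hc0 : c = 0 := by
    rcases sign_cases hk3 hε (show k * c ^ 2 - 2 * ε * c ≤ 2 by linarith) with h | hce
    · exact h
    subst hce
    exfalso
    have hεsq : c ^ 2 = 1 := by rcases hε with h | h <;> subst h <;> norm_num
    have hk4 : k ≤ 4 := by
      rw [hεsq, mul_one, mul_assoc, ← pow_two, hεsq, mul_one] at hC2
      linarith
    obtain rfl : t = 2 := by
      rcases ht with h | h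
      · exact h
      · have := mul_le_mul_of_nonneg_right h (show (0 : ℤ) ≤ t by linarith)
        linarith
    have hkv : k = 3 := by linarith
    rw [hkv] at hC2 e1 e2 R1 R2
    norm_num [hA] at hcong hw e1 e2 R1 R2
    exact no_eps_case (O \ E) v s C hv₀pos hs₀01 hε (by linarith) (by simpa using hcong)
      (by rw [hεsq, mul_assoc, ← pow_two, hεsq] at hC2; linarith) (by linarith) (by linarith)
      (by linarith) (by linarith)
  subst hc0
  simp only [zero_add, mul_zero, sub_zero, zero_sub, ne_eq, OfNat.ofNat_ne_zero, not_false_eq_true,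
    zero_pow, add_zero] at hC2 e1 e2 hcong
  have hmain : s₀ = 1 ∧ v₀ = 2 * t ^ 2 - 2 * t + 1 ∧ ε = -1 := by
    rcases degree_cases ht hs₀01 hε hv₀pos hw hcong with ⟨a, b, c⟩ | ⟨rfl, rfl, rfl⟩
    · exact ⟨a, c, b⟩
    · exfalso
      have hCS := Finset.sum_mul_sq_le_sq_mul_sq (O \ E) C s
      rw [hC2, R3, show ∑ i ∈ O \ E, C i * s i = 2 by linarith, show k = 3 by linarith] at hCS
      norm_num at hCS
  obtain ⟨rfl, hv₀v, rfl⟩ := hmain
  refine ⟨⟨rfl, hv₀v, rfl, rfl⟩, ?_, hC2, by linarith, by rw [R3]; linarith⟩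
  -- the rest
  choose! j' hj' using fun i hi => cong_lift (cgR i hi)
  have hCle : ∀ i ∈ O \ E, -1 ≤ C i ∧ C i ≤ 1 := by
    intro i hi
    have h : C i ^ 2 ≤ 2 := hC2 ▸ Finset.single_le_sum (fun i _ => sq_nonneg (C i)) hi
    constructor <;> nlinarith
  have hnn : ∀ i ∈ O \ E, 0 ≤ (v i - A * s i) ^ 2 - t ^ 2 * C i ^ 2 ∧
      ((v i - A * s i) ^ 2 - t ^ 2 * C i ^ 2 = 0 → v i - A * s i = t * C i) := by
    intro i hi
    obtain ⟨u, hu⟩ : ∃ u, v i - A * s i = t * C i + A * u :=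
      ⟨j' i - s i, by linear_combination hj' i hi⟩
    obtain ⟨c1, c2⟩ := hCle i hi
    rw [hu]
    rcases lt_trichotomy u 0 with h | rfl | h
    · have h1 : 0 < (t * C i + A * u) ^ 2 - t ^ 2 * C i ^ 2 := by
        have : 2 * t * C i + A * u < 0 := by nlinarith
        nlinarith [mul_pos (mul_pos (show (0:ℤ) < A by nlinarith) (neg_pos.2 h)) (neg_pos.2 this)]
      exact ⟨h1.le, fun h0 => absurd h0 h1.ne'⟩
    · exact ⟨by ring_nf; exact le_refl _, fun _ => by ring⟩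
    · have h1 : 0 < (t * C i + A * u) ^ 2 - t ^ 2 * C i ^ 2 := by
        have : 0 < 2 * t * C i + A * u := by nlinarith
        nlinarith [mul_pos (mul_pos (show (0:ℤ) < A by nlinarith) h) this]
      exact ⟨h1.le, fun h0 => absurd h0 h1.ne'⟩
  have hz : ∑ i ∈ O \ E, ((v i - A * s i) ^ 2 - t ^ 2 * C i ^ 2) = 0 := by
    trans ∑ i ∈ O \ E, v i ^ 2 - 2 * A * ∑ i ∈ O \ E, v i * s i + A ^ 2 * ∑ i ∈ O \ E, s i ^ 2 -
      t ^ 2 * ∑ i ∈ O \ E, C i ^ 2
    · rw [Finset.mul_sum, Finset.mul_sum, Finset.mul_sum, ← Finset.sum_sub_distrib,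
        ← Finset.sum_add_distrib, ← Finset.sum_sub_distrib]
      exact Finset.sum_congr rfl fun i _ => by ring
    · rw [R1, R2, R3, hC2, hv₀v, hA]
      linear_combination -8 * t ^ 2 * hk
  intro i hi
  exact ⟨(hnn i hi).2 ((Finset.sum_eq_zero_iff_of_nonneg fun i hi => (hnn i hi).1).1 hz i hi), hCle i hi⟩

/-- The remaining characters, given a family of the second torus when `t` is not two. -/
theorem second_family {t : ℤ} (ht : t = 2 ∨ 4 ≤ t) (R : Finset ι) (v s C : ι → ℤ)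
    (hv : ∀ i ∈ R, 0 < v i) (hs : ∀ i ∈ R, 0 ≤ s i)
    (hR : ∀ i ∈ R, v i - (2 * t ^ 2 + 2 * t + 1) * s i = t * C i ∧ -1 ≤ C i ∧ C i ≤ 1)
    (hC2 : ∑ i ∈ R, C i ^ 2 = 2) (hCs : ∑ i ∈ R, C i * s i = 0)
    (hs2 : 2 * ∑ i ∈ R, s i ^ 2 = t ^ 2 - t)
    (hfam : t ≠ 2 → ∃ E : Finset ι, E ⊆ R ∧ 2 * (E.card : ℤ) = t ^ 2 - t ∧
      ∀ i ∈ E, ∀ i' ∈ E, v i = v i' ∧ s i = s i') :
    (∀ i ∈ R, (v i = 2 * t ^ 2 + 2 * t + 1 ∧ s i = 1 ∧ C i = 0) ∨ (v i = t ∧ s i = 0 ∧ C i = 1)) ∧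
    (∃ i ∈ R, v i = 2 * t ^ 2 + 2 * t + 1) ∧ ∃ i ∈ R, v i = t := by
  set A := 2 * t ^ 2 + 2 * t + 1 with hA
  have key : ∀ i ∈ R, C i * s i = 0 ∧ s i ≤ 1 := by
    by_cases ht2 : t = 2
    · subst ht2
      have h1 : ∑ i ∈ R, s i ^ 2 = 1 := by linarith
      have hle : ∀ i ∈ R, s i ≤ 1 := by
        intro i hi
        have h : s i ^ 2 ≤ 1 := h1 ▸ Finset.single_le_sum (fun i _ => sq_nonneg (s i)) hi
        nlinarith
      intro i hi
      refine ⟨?_, hle i hi⟩
      rcases (show s i = 0 ∨ s i = 1 by have := hle i hi; have := hs i hi; omega) with h | h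
      · rw [h, mul_zero]
      · have hothers : ∀ i' ∈ R, i' ≠ i → s i' = 0 := by
          intro i' hi' hne
          by_contra h'
          have h'' : ∑ x ∈ ({i, i'} : Finset ι), s x ^ 2 ≤ ∑ x ∈ R, s x ^ 2 :=
            Finset.sum_le_sum_of_subset_of_nonneg (Finset.insert_subset hi (Finset.singleton_subset_iff.2 hi'))
              fun x _ _ => sq_nonneg _
          rw [Finset.sum_pair (Ne.symm hne), h1, h] at h''
          have : 1 ≤ s i' := by have := hs i' hi'; omega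
          nlinarith
        rw [Finset.sum_eq_single i (fun x hx hne => by rw [hothers x hx hne, mul_zero])
          (fun h => absurd hi h)] at hCs
        exact hCs
    · obtain ⟨E, hE, hk, hconst⟩ := hfam ht2
      have ht3 : 3 ≤ t := by omega
      have hk3 : 3 ≤ (E.card : ℤ) := by nlinarith
      obtain ⟨e, he⟩ : E.Nonempty := Finset.card_pos.1 (by omega)
      have hCe : ∀ i ∈ E, C i = C e := fun i hi => by
        have a := (hR i (hE hi)).1
        have b := (hR e (hE he)).1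
        rw [(hconst i hi e he).1, (hconst i hi e he).2, b] at a
        exact mul_left_cancel₀ (by omega) a.symm
      have hCe0 : C e = 0 := by
        have h : ∑ i ∈ E, C i ^ 2 ≤ 2 := hC2 ▸
          Finset.sum_le_sum_of_subset_of_nonneg hE fun x _ _ => sq_nonneg _
        rw [Finset.sum_congr rfl (fun i hi => show C i ^ 2 = C e ^ 2 by rw [hCe i hi]), Finset.sum_const,
          nsmul_eq_mul] at h
        by_contra hne
        have : 1 ≤ C e ^ 2 := by
          rcases lt_or_gt_of_ne hne with h | h <;> nlinarith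
        nlinarith
      have hse : 1 ≤ s e := by
        have a := (hR e (hE he)).1
        rw [hCe0, mul_zero] at a
        have := hv e (hE he)
        by_contra h
        have h0 : s e = 0 := by have := hs e (hE he); omega
        rw [h0, mul_zero] at a
        linarith
      have h : ∑ i ∈ R \ E, s i ^ 2 + ∑ i ∈ E, s i ^ 2 = ∑ i ∈ R, s i ^ 2 := Finset.sum_sdiff hE
      have hsumE : ∑ i ∈ E, s i ^ 2 = (E.card : ℤ) * s e ^ 2 := by
        rw [Finset.sum_congr rfl (g := fun _ => s e ^ 2) (fun i hi => by rw [(hconst i hi e he).2]),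
          Finset.sum_const, nsmul_eq_mul]
      rw [hsumE] at h
      have hnn : 0 ≤ ∑ i ∈ R \ E, s i ^ 2 := Finset.sum_nonneg fun i _ => sq_nonneg _
      have hse1 : s e = 1 := by
        by_contra hne
        have h4 : 4 ≤ s e ^ 2 := by nlinarith [show 2 ≤ s e by omega]
        have := mul_le_mul_of_nonneg_left h4 (show (0 : ℤ) ≤ E.card by linarith)
        linarith
      have hzero : ∑ i ∈ R \ E, s i ^ 2 = 0 := by rw [hse1] at h; linarith
      intro i hi
      by_cases hiE : i ∈ E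
      · rw [hCe i hiE, hCe0, (hconst i hiE e he).2, hse1]; norm_num
      · have := pow_eq_zero_iff two_ne_zero |>.1
          ((Finset.sum_eq_zero_iff_of_nonneg fun i _ => sq_nonneg _).1 hzero i (Finset.mem_sdiff.2 ⟨hi, hiE⟩))
        rw [this, mul_zero]; norm_num
  have val : ∀ i ∈ R, (s i = 1 → v i = A) ∧ (s i = 0 → C i = 1 ∧ v i = t) := by
    intro i hi
    obtain ⟨a, c1, c2⟩ := hR i hi
    refine ⟨fun h => ?_, fun h => ?_⟩
    · have := (key i hi).1
      rw [h, mul_one] at this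
      rw [this, h] at a
      linarith
    · rw [h] at a
      have := hv i hi
      have hC : C i = 1 := by
        by_contra hne
        have : C i ≤ 0 := by omega
        have := mul_nonpos_of_nonneg_of_nonpos (show (0 : ℤ) ≤ t by omega) this
        linarith
      rw [hC] at a
      exact ⟨hC, by linarith⟩
  refine ⟨fun i hi => ?_, ?_, ?_⟩
  · rcases (show s i = 0 ∨ s i = 1 by have := (key i hi).2; have := hs i hi; omega) with h | h
    · exact Or.inr ⟨((val i hi).2 h).2, h, ((val i hi).2 h).1⟩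
    · exact Or.inl ⟨(val i hi).1 h, h, by simpa [h] using (key i hi).1⟩
  · by_contra hne
    push Not at hne
    have : ∑ i ∈ R, s i ^ 2 = 0 := Finset.sum_eq_zero fun i hi => by
      rcases (show s i = 0 ∨ s i = 1 by have := (key i hi).2; have := hs i hi; omega) with h | h
      · rw [h]; norm_num
      · exact absurd ((val i hi).1 h) (hne i hi)
    rw [this] at hs2
    have := mul_le_mul_of_nonneg_right (show (2 : ℤ) ≤ t by omega) (show (0 : ℤ) ≤ t by omega)
    linarith [show (2 : ℤ) ≤ t by omega]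
  · obtain ⟨i, hi, hne⟩ := Finset.exists_ne_zero_of_sum_ne_zero (by rw [hC2]; norm_num : ∑ i ∈ R, C i ^ 2 ≠ 0)
    refine ⟨i, hi, ((val i hi).2 ?_).2⟩
    by_contra h
    have := mul_eq_zero.1 (key i hi).1
    rcases this with h' | h'
    · rw [h'] at hne; norm_num at hne
    · exact h h'

end CfsgLib.SuzukiChars
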