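import Cfsg.Agent.Lib.SuzukiGroup.SubgroupBasic
import Cfsg.Agent.Lib.SuzukiGroup.Solvabilizer
import Cfsg.Agent.Lib.Characters.Induction
import Cfsg.Agent.Lib.Characters.Generalized
import Cfsg.Agent.Lib.Characters.Artin
import Cfsg.Agent.Lib.Chars17.IrrBasic
import Mathlib.GroupTheory.FiniteAbelian.Duality
import Mathlib.RingTheory.IntegralDomain

/-!
# The principal series of the Suzuki group and the column relations of the other characters
-/

set_option autoImplicit false

noncomputable section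

namespace CfsgLib.SuzukiChars

open Cfsg Cfsg.Lie CfsgLib.SuzukiGroup CfsgLib.Characters
open scoped ComplexConjugate

variable {F : Type*} [Field F] [Fintype F]

/-- The linear characters of the split torus. -/
abbrev Lin (F : Type*) [Field F] := Fˣ →* ℂˣ

theorem card_lin : Nat.card (Lin F) = Fintype.card F - 1 := by
  classical
  rw [CommGroup.card_monoidHom_of_hasEnoughRootsOfUnity, Nat.card_eq_fintype_card, Fintype.card_units]

instance instFiniteLin : Finite (Lin F) := by
  classical
  exact Nat.finite_of_card_ne_zero (by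
    rw [card_lin]; have := Fintype.one_lt_card (α := F); omega)

theorem sum_lin (l : Lin F) [DecidableEq (Lin F)] [Fintype Fˣ] :
    ∑ x : Fˣ, ((l x : ℂˣ) : ℂ) = if l = 1 then (Fintype.card F - 1 : ℂ) else 0 := by
  classical
  split_ifs with h
  · subst h
    simp only [MonoidHom.one_apply, Units.val_one, Finset.sum_const, Finset.card_univ, nsmul_eq_mul,
      mul_one]
    rw [← Nat.card_eq_fintype_card, Nat.card_units, Nat.card_eq_fintype_card,
      Nat.cast_sub Fintype.card_pos, Nat.cast_one]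
  · exact sum_hom_units_eq_zero ((Units.coeHom ℂ).comp l) fun h0 => h (MonoidHom.ext fun x =>
      Units.ext (by simpa using DFunLike.congr_fun h0 x))

theorem sum_lin_apply [Fintype (Lin F)] {t : Fˣ} (ht : t ≠ 1) :
    ∑ l : Lin F, ((l t : ℂˣ) : ℂ) = 0 := by
  classical
  let ev : Lin F →* ℂ :=
    { toFun := fun l => ((l t : ℂˣ) : ℂ), map_one' := by simp, map_mul' := fun a b => by simp }
  refine sum_hom_units_eq_zero ev fun h => ?_
  obtain ⟨l, hl⟩ := CommGroup.exists_apply_ne_one_of_hasEnoughRootsOfUnity Fˣ ℂ ht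
  exact hl (Units.ext (DFunLike.congr_fun h l))

theorem lin_mul_inv (l l' : Lin F) : l * l'⁻¹ = 1 ↔ l = l' := by
  constructor
  · intro h
    refine MonoidHom.ext fun x => ?_
    have := DFunLike.congr_fun h x
    simpa [mul_inv_eq_one] using this
  · rintro rfl
    exact MonoidHom.ext fun x => by simp

theorem lin_mul_eq_one (l l' : Lin F) : l * l' = 1 ↔ l = l'⁻¹ := by
  constructor
  · intro h
    refine MonoidHom.ext fun x => ?_
    have := DFunLike.congr_fun h x
    simpa [mul_eq_one_iff_eq_inv] using this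
  · rintro rfl
    exact MonoidHom.ext fun x => by simp

theorem lin_inv_eq_one (l : Lin F) : l⁻¹ = 1 ↔ l = 1 := by
  constructor <;> intro h <;> refine MonoidHom.ext fun x => ?_ <;>
    simpa using DFunLike.congr_fun h x

theorem conj_lin (l : Lin F) (x : Fˣ) : conj ((l x : ℂˣ) : ℂ) = ((l x⁻¹ : ℂˣ) : ℂ) :=
  (irr_apply_inv ⟨fun g : Fˣ => ((l g : ℂˣ) : ℂ), isIrrCharacter_of_hom l⟩ x).symm

variable [CharP F 2] {m : ℕ}
  (P : Params F (2 ^ (m + 1))) (hF : Fintype.card F = 2 ^ (2 * m + 1)) (hm : 1 ≤ m)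

set_option quotPrecheck false in
local notation "SzG" => ↥(Lie.Sz F (2 ^ (m + 1)))
set_option quotPrecheck false in
local notation "Bor" => borel (F := F) (e := 2 ^ (m + 1))

include hF in
omit [CharP F 2] in
theorem lin_mul_self {l : Lin F} (h : l * l = 1) : l = 1 := by
  classical
  have h2 : orderOf l ∣ 2 := orderOf_dvd_of_pow_eq_one (by rw [pow_two, h])
  have h3 : orderOf l ∣ Fintype.card F - 1 := card_lin (F := F) ▸ orderOf_dvd_natCard l
  have hodd : Odd (Fintype.card F - 1) := by
    rw [hF]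
    exact Nat.Even.sub_odd (Nat.one_le_two_pow) (Nat.even_pow.2 ⟨even_two, by omega⟩) odd_one
  exact orderOf_eq_one_iff.1 (Nat.eq_one_of_dvd_coprimes hodd.coprime_two_left h2 h3)

/-- The diagonal entry of an element of the Borel subgroup. -/
def kappa : ↥Bor →* Fˣ :=
  MonoidHom.toHomUnits
    { toFun := fun g => mat (g : SzG) 0 0
      map_one' := by simp
      map_mul' := fun g h => by
        obtain ⟨h1, h2, h3⟩ := mem_borel.1 h.2
        simp [Matrix.mul_apply, Fin.sum_univ_four, h1, h2, h3] }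

theorem kappa_val (g : ↥Bor) : ((kappa g : Fˣ) : F) = mat (g : SzG) 0 0 := rfl

theorem kappa_uEl_dEl (a b : F) (x : Fˣ) (h : uEl P a b * dEl P x ∈ Bor) :
    kappa ⟨uEl P a b * dEl P x, h⟩ = x := by
  apply Units.ext
  rw [kappa_val]
  simp [Matrix.mul_apply, Fin.sum_univ_four, uMat, dMat]

theorem kappa_dEl (x : Fˣ) (h : dEl P x ∈ Bor) : kappa ⟨dEl P x, h⟩ = x := by
  have := kappa_uEl_dEl P 0 0 x (by rw [uEl_zero, one_mul]; exact h)
  simpa [uEl_zero] using this

theorem kappa_unip {g : ↥Bor} (hg : (g : SzG) ∈ unip P) : kappa g = 1 := by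
  obtain ⟨a, b, h⟩ := hg
  apply Units.ext
  rw [kappa_val, h]
  simp [uMat]

/-- The function of a linear character on the Borel subgroup. -/
def lamFun (l : Lin F) : ↥Bor → ℂ := fun g => ((l (kappa g) : ℂˣ) : ℂ)

theorem isCharacter_lamFun (l : Lin F) : IsCharacter ↥Bor (lamFun (m := m) l) :=
  isCharacter_of_irr (isIrrCharacter_of_hom (l.comp kappa))

/-- The induced character. -/
def PS [Fintype SzG] (l : Lin F) : SzG → ℂ := indFun Bor (lamFun l)


theorem classFun_PS [Fintype SzG] (l : Lin F) : IsClassFunction SzG (PS l) :=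
  CfsgLib.Induction.isClassFunction_indFun _ _

include P in
theorem PS_one [Fintype SzG] (l : Lin F) : PS (m := m) l 1 = (Fintype.card F : ℂ) ^ 2 + 1 := by
  rw [PS, CfsgLib.Induction.indFun_one_apply, index_borel P]
  simp [lamFun]

theorem PS_fpf [Fintype SzG] (l : Lin F) {g : SzG} (hg : FPF g) : PS l g = 0 :=
  CfsgLib.Induction.indFun_eq_zero_of_forall _ fun x h => hg x⁻¹ (by simpa using h)

include hF hm in
theorem PS_unip [Fintype SzG] (l : Lin F) {g : SzG} (hg : g ∈ unip P) (h1 : g ≠ 1) : PS l g = 1 := by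
  classical
  have hgB := unip_le_borel P hg
  have h4 : orderOf g ∣ 4 := orderOf_dvd_four P (k := 1) (by simpa using hg)
  have key : ∀ x : SzG, extendByZero Bor (lamFun l) (x⁻¹ * g * x) = if x ∈ Bor then 1 else 0 := by
    intro x
    by_cases hy : x⁻¹ * g * x ∈ Bor
    · have ho : orderOf (x⁻¹ * g * x) ∣ 4 := by
        have h := orderOf_injective (MulAut.conj x⁻¹).toMonoidHom (MulAut.conj x⁻¹).injective g
        simp only [MulEquiv.coe_toMonoidHom, MulAut.conj_apply, inv_inv] at h
        rwa [h]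
      have hU := mem_unip_of_even P hF hm hy ho
      have hx : x ∈ Bor := by
        have := conj_unip_ne P hg h1 (g := x⁻¹) (by simpa using hU)
        simpa using Subgroup.inv_mem _ this
      rw [CfsgLib.Induction.extendByZero_mem Bor _ hy, if_pos hx, lamFun, kappa_unip P (g := ⟨_, hy⟩) hU]
      simp
    · rw [CfsgLib.Induction.extendByZero_notMem _ _ hy, if_neg]
      exact fun hx => hy (mul_mem (mul_mem (inv_mem hx) hgB) hx)
  rw [PS, CfsgLib.Induction.indFun_apply, Finset.sum_congr rfl fun x _ => key x, Finset.sum_boole]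
  rw [show (Finset.univ.filter fun x : SzG => x ∈ Bor).card = Nat.card ↥Bor by
    rw [Nat.card_eq_fintype_card, Fintype.card_subtype]]
  exact inv_mul_cancel₀ CfsgLib.Induction.natCard_ne_zero'

include hF hm in
theorem PS_dEl [Fintype SzG] (l : Lin F) {t : Fˣ} (ht : t ≠ 1) :
    PS l (dEl P t) = ((l t : ℂˣ) : ℂ) + ((l t⁻¹ : ℂˣ) : ℂ) := by
  classical
  have hcl := CfsgLib.Induction.extendByZero_conj Bor
    (θ := lamFun (m := m) l) (isClassFunction_of_isCharacter (isCharacter_lamFun l))
  have hval : ∀ (s : Fˣ), extendByZero Bor (lamFun l) (dEl P s) = ((l s : ℂˣ) : ℂ) := by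
    intro s
    rw [CfsgLib.Induction.extendByZero_mem Bor _ (dEl_mem_borel P s), lamFun, kappa_dEl]
  have hsplit : ∀ x : SzG, x⁻¹ * dEl P t * x ∈ Bor → x ∈ Bor ∨ jEl P * x ∈ Bor := by
    intro x hx
    by_contra hc
    push Not at hc
    obtain ⟨a, b, h, hh, rfl⟩ := bruhat P hc.1
    have hu : uEl P a b ∈ unip P := ⟨a, b, rfl⟩
    have hv : (uEl P a b)⁻¹ * (dEl P t * uEl P a b * (dEl P t)⁻¹) ∈ unip P :=
      mul_mem (inv_mem hu) (dEl_conj_unip P t hu)
    have hw : jEl P * ((uEl P a b)⁻¹ * (dEl P t * uEl P a b * (dEl P t)⁻¹)) * (jEl P)⁻¹ ∈ Bor := by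
      have h2 := mul_mem (mul_mem hh (mul_mem hx (inv_mem hh))) (dEl_mem_borel P t)
      have e : jEl P * ((uEl P a b)⁻¹ * (dEl P t * uEl P a b * (dEl P t)⁻¹)) * (jEl P)⁻¹ =
          h * ((uEl P a b * jEl P * h)⁻¹ * dEl P t * (uEl P a b * jEl P * h) * h⁻¹) * dEl P t := by
        have e3 : jEl P * dEl P t = (dEl P t)⁻¹ * jEl P := by rw [jEl_mul_dEl, dEl_inv]
        rw [show h * ((uEl P a b * jEl P * h)⁻¹ * dEl P t * (uEl P a b * jEl P * h) * h⁻¹) * dEl P t =
          (jEl P)⁻¹ * ((uEl P a b)⁻¹ * dEl P t * uEl P a b) * (jEl P * dEl P t) by group, e3, jEl_inv]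
        group
      rwa [e]
    have ho : orderOf (jEl P * ((uEl P a b)⁻¹ * (dEl P t * uEl P a b * (dEl P t)⁻¹)) * (jEl P)⁻¹) ∣ 4 :=
      orderOf_dvd_four P (k := (jEl P)⁻¹) (by
        rw [inv_inv, ← mul_assoc, inv_mul_cancel_right, ← mul_assoc, inv_mul_cancel, one_mul]
        exact hv)
    have hv1 := eq_one_of_conj P (jEl_notMem_borel P) hv (mem_unip_of_even P hF hm hw ho)
    have hcomm : uEl P a b ∈ Subgroup.centralizer {dEl P t} := by
      rw [Subgroup.mem_centralizer_singleton_iff]
      rw [inv_mul_eq_one, eq_mul_inv_iff_mul_eq] at hv1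
      exact hv1
    rw [centralizer_dEl P ht] at hcomm
    obtain ⟨y, hy⟩ := (mem_torus P).1 hcomm
    have hy1 : y = 1 := borel_decomp_mem_unip P (a := 0) (b := 0) (by rw [uEl_zero, one_mul, hy]; exact hu)
    rw [hy1, dEl_one] at hy
    apply hc.2
    rw [← hy, one_mul, ← mul_assoc, jEl_mul_self, one_mul]
    exact hh
  have key : ∀ x : SzG, extendByZero Bor (lamFun l) (x⁻¹ * dEl P t * x) =
      (if x ∈ Bor then ((l t : ℂˣ) : ℂ) else 0) +
        (if jEl P * x ∈ Bor then ((l t⁻¹ : ℂˣ) : ℂ) else 0) := by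
    intro x
    by_cases hxB : x ∈ Bor
    · have hj : jEl P * x ∉ Bor := fun h => jEl_notMem_borel P (by simpa using mul_mem h (inv_mem hxB))
      rw [if_pos hxB, if_neg hj, add_zero]
      have := hcl (⟨x, hxB⟩⁻¹ : ↥Bor) (dEl P t)
      simp only [InvMemClass.coe_inv, inv_inv] at this
      rw [this, hval]
    rw [if_neg hxB, zero_add]
    by_cases hjx : jEl P * x ∈ Bor
    · rw [if_pos hjx]
      have := hcl (⟨_, hjx⟩⁻¹ : ↥Bor) (dEl P t⁻¹)
      simp only [InvMemClass.coe_inv, inv_inv] at this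
      rw [hval] at this
      rw [← this]
      congr 1
      rw [← dEl_inv, ← jEl_conj_dEl]
      simp only [mul_inv_rev, jEl_inv]
      rw [show x⁻¹ * jEl P * (jEl P * dEl P t * jEl P) * (jEl P * x) =
        x⁻¹ * (jEl P * jEl P) * dEl P t * (jEl P * jEl P) * x by group, jEl_mul_self]
      group
    rw [if_neg hjx]
    exact CfsgLib.Induction.extendByZero_notMem _ _ fun h => (hsplit x h).elim hxB hjx
  rw [PS, CfsgLib.Induction.indFun_apply, Finset.sum_congr rfl fun x _ => key x, Finset.sum_add_distrib]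
  have hs : ∀ c : ℂ, ∑ x : SzG, (if x ∈ Bor then c else 0) = (Nat.card ↥Bor : ℂ) * c := fun c => by
    rw [← Finset.sum_filter, Finset.sum_const, nsmul_eq_mul, Nat.card_eq_fintype_card, Fintype.card_subtype]
  rw [hs, Fintype.sum_equiv (Equiv.mulLeft (jEl P))
    (fun x => if jEl P * x ∈ Bor then ((l t⁻¹ : ℂˣ) : ℂ) else 0)
    (fun x => if x ∈ Bor then ((l t⁻¹ : ℂˣ) : ℂ) else 0) (fun x => rfl), hs, ← mul_add,
    inv_mul_cancel_left₀ CfsgLib.Induction.natCard_ne_zero']

include P hF hm in
theorem classInner_PS [Fintype SzG] [DecidableEq (Lin F)] (l l' : Lin F) :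
    classInner (PS (m := m) l) (PS l') = (if l = l' then 1 else 0) + (if l * l' = 1 then 1 else 0) := by
  classical
  have : Fintype ↥Bor := Fintype.ofFinite _
  rw [PS, CfsgLib.Induction.classInner_indFun _ _ (classFun_PS l'), classInner]
  let φ : (F × F) × Fˣ → ↥Bor := fun p =>
    ⟨uEl P p.1.1 p.1.2 * dEl P p.2, mul_mem (uEl_mem_borel P _ _) (dEl_mem_borel P _)⟩
  have hφ : Function.Bijective φ := by
    refine (Fintype.bijective_iff_surjective_and_card φ).2 ⟨?_, ?_⟩
    · rintro ⟨g, hg⟩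
      obtain ⟨a, b, x, rfl⟩ := borel_form P hg
      exact ⟨((a, b), x), rfl⟩
    · rw [← Nat.card_eq_fintype_card (α := ↥Bor), card_borel P, Fintype.card_prod, Fintype.card_prod,
        Fintype.card_units, pow_two]
  rw [← (Equiv.ofBijective φ hφ).sum_comp, card_borel P, Fintype.sum_prod_type_right]
  have hx : ∀ x : Fˣ, ∑ p : F × F, lamFun l (Equiv.ofBijective φ hφ (p, x)) *
      conj (PS l' ((Equiv.ofBijective φ hφ (p, x) : ↥Bor) : SzG)) =
      (Fintype.card F : ℂ) ^ 2 * ((((l * l'⁻¹) x : ℂˣ) : ℂ) + (((l * l') x : ℂˣ) : ℂ)) := by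
    intro x
    have hl : ∀ p : F × F, lamFun l (Equiv.ofBijective φ hφ (p, x)) = ((l x : ℂˣ) : ℂ) := fun p => by
      rw [Equiv.ofBijective_apply, lamFun, kappa_uEl_dEl]
    rw [Finset.sum_congr rfl fun p _ => by rw [hl p], ← Finset.mul_sum]
    simp only [Equiv.ofBijective_apply, φ]
    rcases eq_or_ne x 1 with rfl | hx1
    · simp only [map_one, Units.val_one, one_mul, dEl_one, mul_one]
      rw [← Finset.add_sum_erase _ _ (Finset.mem_univ ((0 : F), (0 : F))), uEl_zero, PS_one P,
        Finset.sum_congr rfl (fun p hp => by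
          rw [PS_unip P hF hm l' ⟨p.1, p.2, rfl⟩ (fun h => Finset.ne_of_mem_erase hp (by
            obtain ⟨e1, e2⟩ := (uEl_eq_one P).1 h
            exact Prod.ext e1 e2)), map_one]),
        Finset.sum_const, Finset.card_erase_of_mem (Finset.mem_univ _), Finset.card_univ,
        Fintype.card_prod, nsmul_eq_mul, mul_one, Nat.cast_sub (Nat.one_le_iff_ne_zero.2 (by positivity))]
      simp only [map_add, map_pow, map_natCast, map_one, Nat.cast_mul, Nat.cast_one]
      ring
    · have hv : ∀ p : F × F, PS l' (uEl P p.1 p.2 * dEl P x) = ((l' x : ℂˣ) : ℂ) + ((l' x⁻¹ : ℂˣ) : ℂ) := by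
        intro p
        obtain ⟨v, -, hv⟩ := exists_conj_dEl P p.1 p.2 hx1
        rw [hv, classFun_PS l' (dEl P x) v, PS_dEl P hF hm l' hx1]
      simp only [hv, map_add, conj_lin, inv_inv]
      simp only [Finset.sum_const, Finset.card_univ, Fintype.card_prod,
        nsmul_eq_mul, MonoidHom.mul_apply, MonoidHom.inv_apply, Units.val_mul, map_inv]
      push_cast
      ring
  rw [Finset.sum_congr rfl fun x _ => hx x, ← Finset.mul_sum, Finset.sum_add_distrib, sum_lin, sum_lin]
  simp only [lin_mul_inv]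
  have h1 := Fintype.one_lt_card (α := F)
  rw [Nat.cast_mul, Nat.cast_pow, Nat.cast_sub h1.le, Nat.cast_one]
  have hq : (Fintype.card F : ℂ) ≠ 0 := by exact_mod_cast Fintype.card_ne_zero
  have hq1 : (Fintype.card F : ℂ) - 1 ≠ 0 := by
    rw [sub_ne_zero]; exact_mod_cast h1.ne'
  split_ifs <;> field_simp <;> ring

theorem irr_of_norm_one [Fintype SzG] {φ : SzG → ℂ} (hg : IsGeneralizedCharacter SzG φ)
    (hn : classInner φ φ = 1) {d : ℕ} (hd : φ 1 = d) : IsIrrCharacter SzG φ := by
  obtain ⟨μ, h | h⟩ := eq_irr_or_neg_of_classInner_self_eq_one hg hn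
  · exact h ▸ μ.2
  · exfalso
    obtain ⟨e, he0, he⟩ := irr_exists_degree μ.2
    rw [h, Pi.neg_apply, he] at hd
    have hc : ((d + e : ℕ) : ℂ) = 0 := by
      push_cast
      linear_combination -hd
    have := Nat.cast_eq_zero.1 hc
    omega

include P hF hm in
theorem PS_irr [Fintype SzG] {l : Lin F} (hl : l ≠ 1) : IsIrrCharacter SzG (PS l) := by
  classical
  refine irr_of_norm_one (CfsgLib.CharArtin.isGeneralizedCharacter_indFun _
      (isGeneralizedCharacter_of_isCharacter (isCharacter_lamFun l))) ?_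
    (d := Fintype.card F ^ 2 + 1) (by rw [PS_one P]; push_cast; rfl)
  rw [classInner_PS P hF hm, if_pos rfl, if_neg (fun h => hl (lin_mul_self hF h)), add_zero]

include P hF hm in
theorem classInner_PS_one [Fintype SzG] :
    classInner (PS (1 : Lin F)) (fun _ : SzG => (1 : ℂ)) = 1 := by
  classical
  have : Fintype ↥Bor := Fintype.ofFinite _
  rw [PS, CfsgLib.Induction.classInner_indFun _ _ (fun _ _ => rfl)]
  have h : lamFun (m := m) (1 : Lin F) = fun _ => 1 := funext fun g => by simp [lamFun]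
  rw [h]
  exact classInner_irr_self isIrrCharacter_one

include P hF hm in
theorem St_irr [Fintype SzG] :
    IsIrrCharacter SzG (PS (1 : Lin F) - fun _ => 1) := by
  classical
  refine irr_of_norm_one (isGeneralizedCharacter_sub
      (CfsgLib.CharArtin.isGeneralizedCharacter_indFun _
        (isGeneralizedCharacter_of_isCharacter (isCharacter_lamFun 1)))
      (isGeneralizedCharacter_of_isCharacter (isCharacter_of_irr isIrrCharacter_one))) ?_
    (d := Fintype.card F ^ 2) (by rw [Pi.sub_apply, PS_one P]; push_cast; ring)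
  have h1 := classInner_PS_one P hF hm
  have h2 : classInner (fun _ : SzG => (1 : ℂ)) (PS (1 : Lin F)) = 1 := by
    rw [classInner_conj_symm (PS (1 : Lin F)) (fun _ : SzG => (1 : ℂ)), h1, map_one]
  rw [classInner_sub_left, classInner_sub_right, classInner_sub_right, classInner_PS P hF hm,
    classInner_irr_self isIrrCharacter_one, h1, h2, if_pos rfl,
    if_pos (show (1 : Lin F) * 1 = 1 from MonoidHom.ext fun x => by simp)]
  norm_num

section others

variable [Fintype ↥(Lie.Sz F (2 ^ (m + 1)))]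

/-- Not the trivial character, the Steinberg character or a member of the principal series. -/
def IsOther (χ : IrrCharacter SzG) : Prop :=
  (χ : SzG → ℂ) ≠ (fun _ => 1) ∧ (χ : SzG → ℂ) ≠ PS (m := m) (1 : Lin F) - (fun _ => 1) ∧
    ∀ l : Lin F, l ≠ 1 → (χ : SzG → ℂ) ≠ PS (m := m) l

open scoped Classical in
/-- The other characters. -/
def others (F : Type*) [Field F] [Fintype F] [CharP F 2] (m : ℕ) [Fintype ↥(Lie.Sz F (2 ^ (m + 1)))] :
    Finset (IrrCharacter ↥(Lie.Sz F (2 ^ (m + 1)))) :=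
  Finset.univ.filter IsOther

theorem mem_others {χ : IrrCharacter SzG} : χ ∈ others F m ↔ IsOther χ := by
  simp [others]

include P hF hm in
theorem sum_split [Fintype (Lin F)] [DecidableEq (Lin F)] (f : (SzG → ℂ) → ℂ) :
    2 * ∑ χ : IrrCharacter SzG, f χ = 2 * f (fun _ => 1) + 2 * f (PS (1 : Lin F) - fun _ => 1) +
      (∑ l ∈ Finset.univ.erase (1 : Lin F), f (PS l)) + 2 * ∑ χ ∈ others F m, f χ := by
  classical
  let one' : IrrCharacter SzG := ⟨fun _ => 1, isIrrCharacter_one⟩
  let St : IrrCharacter SzG := ⟨_, St_irr P hF hm⟩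
  let g : Lin F → IrrCharacter SzG := fun l => if h : l ≠ 1 then ⟨PS l, PS_irr P hF hm h⟩ else one'
  have hg : ∀ l ∈ Finset.univ.erase (1 : Lin F), (g l : SzG → ℂ) = PS l := fun l hl => by
    simp only [g, dif_pos (Finset.ne_of_mem_erase hl)]
  let S := (Finset.univ.erase (1 : Lin F)).image g
  have hq : (Fintype.card F : ℂ) ≠ 0 := by exact_mod_cast Fintype.card_ne_zero
  have hne1 : one' ∉ S := fun h => by
    obtain ⟨l, hl, e⟩ := Finset.mem_image.1 h
    have := congrFun ((hg l hl).symm.trans (congrArg Subtype.val e)) 1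
    rw [PS_one P] at this
    exact pow_ne_zero 2 hq (by linear_combination this)
  have hneS : St ∉ S := fun h => by
    obtain ⟨l, hl, e⟩ := Finset.mem_image.1 h
    have := congrFun ((hg l hl).symm.trans (congrArg Subtype.val e)) 1
    simp only [St, Pi.sub_apply, PS_one P] at this
    exact one_ne_zero (show (1 : ℂ) = 0 by linear_combination this)
  have hne : one' ≠ St := fun e => by
    have := congrFun (congrArg Subtype.val e) 1
    simp only [one', St, Pi.sub_apply, PS_one P] at this
    have h4 : ((Fintype.card F ^ 2 : ℕ) : ℂ) = ((1 : ℕ) : ℂ) := by push_cast; linear_combination -this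
    have := Nat.cast_inj.1 h4
    have := Fintype.one_lt_card (α := F)
    nlinarith
  have huniv : (Finset.univ : Finset (IrrCharacter SzG)) = insert one' (insert St (S ∪ others F m)) := by
    ext χ
    simp only [Finset.mem_univ, Finset.mem_insert, Finset.mem_union, true_iff]
    by_cases h : IsOther χ
    · exact Or.inr (Or.inr (Or.inr (mem_others.2 h)))
    simp only [IsOther, not_and_or, not_not, not_forall, exists_prop] at h
    rcases h with h | h | ⟨l, hl, h⟩
    · exact Or.inl (Subtype.ext h)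
    · exact Or.inr (Or.inl (Subtype.ext h))
    · refine Or.inr (Or.inr (Or.inl (Finset.mem_image.2 ⟨l, Finset.mem_erase.2 ⟨hl, Finset.mem_univ _⟩, ?_⟩)))
      exact Subtype.ext ((hg l (Finset.mem_erase.2 ⟨hl, Finset.mem_univ _⟩)).trans h.symm)
  have hdisj : Disjoint S (others F m) := Finset.disjoint_left.2 fun χ hχ ho => by
    obtain ⟨l, hl, rfl⟩ := Finset.mem_image.1 hχ
    exact (mem_others.1 ho).2.2 l (Finset.ne_of_mem_erase hl) (hg l hl)
  have ho1 : one' ∉ others F m := fun h => (mem_others.1 h).1 rfl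
  have hoS : St ∉ others F m := fun h => (mem_others.1 h).2.1 rfl
  rw [huniv, Finset.sum_insert (by simp [hne, hne1, ho1]), Finset.sum_insert (by simp [hneS, hoS]),
    Finset.sum_union hdisj]
  have hS : 2 * ∑ χ ∈ S, f χ = ∑ l ∈ Finset.univ.erase (1 : Lin F), f (PS l) := by
    rw [Finset.sum_congr rfl (g := fun l => f (g l : SzG → ℂ)) (fun l hl => by rw [hg l hl]),
      Finset.sum_comp (fun χ : IrrCharacter SzG => f χ) g, Finset.mul_sum]
    refine Finset.sum_congr rfl fun χ hχ => ?_
    obtain ⟨l, hl, rfl⟩ := Finset.mem_image.1 hχ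
    have hl1 := Finset.ne_of_mem_erase hl
    have hfib : (Finset.univ.erase (1 : Lin F)).filter (fun a => g a = g l) = {l, l⁻¹} := by
      ext a
      simp only [Finset.mem_filter, Finset.mem_erase, Finset.mem_univ, and_true, Finset.mem_insert,
        Finset.mem_singleton]
      constructor
      · rintro ⟨ha, he⟩
        by_contra hc
        push Not at hc
        have h := classInner_PS P hF hm a l
        rw [← hg a (Finset.mem_erase.2 ⟨ha, Finset.mem_univ _⟩), ← hg l hl, he,
          classInner_irr_self (g l).2, if_neg hc.1, if_neg (fun h => hc.2 ((lin_mul_eq_one a l).1 h))] at h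
        simp at h
      · rintro (rfl | rfl)
        · exact ⟨hl1, rfl⟩
        · have ha : l⁻¹ ≠ 1 := fun h => hl1 ((lin_inv_eq_one l).1 h)
          refine ⟨ha, ?_⟩
          by_contra he
          have h := classInner_PS P hF hm l⁻¹ l
          rw [← hg _ (Finset.mem_erase.2 ⟨ha, Finset.mem_univ _⟩), ← hg l hl,
            classInner_irr, if_neg he, if_pos ((lin_mul_eq_one l⁻¹ l).2 rfl)] at h
          split_ifs at h <;> norm_num at h
    have hne : l ≠ l⁻¹ := fun h => hl1 (lin_mul_self hF ((lin_mul_eq_one l l).2 h))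
    rw [hfib, Finset.card_pair hne, two_nsmul, two_mul]
  rw [mul_add, mul_add, mul_add, hS]
  simp only [one', St]
  ring

include P hF hm in
/-- The other characters vanish on the split torus. -/
theorem vanish_torus {χ : IrrCharacter SzG} (hχ : χ ∈ others F m) {t : Fˣ} (ht : t ≠ 1) :
    (χ : SzG → ℂ) (dEl P t) = 0 := by
  classical
  have : Fintype (Lin F) := Fintype.ofFinite _
  have hcol := column_orth (dEl P t) (dEl P t)
  rw [if_pos (IsConj.refl _), centralizer_dEl P ht, card_torus P] at hcol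
  have h := sum_split P hF hm (fun φ => φ (dEl P t) * conj (φ (dEl P t)))
  rw [hcol, Pi.sub_apply, PS_dEl P hF hm 1 ht] at h
  have hps : ∑ l ∈ Finset.univ.erase (1 : Lin F), PS l (dEl P t) * conj (PS l (dEl P t)) =
      2 * (Fintype.card F : ℂ) - 6 := by
    have h2 : ∀ l : Lin F, PS l (dEl P t) * conj (PS l (dEl P t)) =
        ((l (t * t) : ℂˣ) : ℂ) + ((l (t⁻¹ * t⁻¹) : ℂˣ) : ℂ) + 2 := by
      intro l
      rw [PS_dEl P hF hm l ht, map_add, conj_lin, conj_lin, inv_inv, map_mul, map_mul, Units.val_mul,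
        Units.val_mul]
      have e : ((l t : ℂˣ) : ℂ) * ((l t⁻¹ : ℂˣ) : ℂ) = 1 := by
        rw [← Units.val_mul, ← map_mul, mul_inv_cancel, map_one, Units.val_one]
      linear_combination 2 * e
    have ht2 : t * t ≠ 1 := fun h => ht (Units.ext (sq_eq_one (by
      simpa using congrArg (fun u : Fˣ => (u : F)) h)))
    have ht2' : t⁻¹ * t⁻¹ ≠ 1 := by rwa [← mul_inv, ne_eq, inv_eq_one]
    rw [Finset.sum_erase_eq_sub (Finset.mem_univ _), Finset.sum_congr rfl fun l _ => h2 l, h2 1,
      Finset.sum_add_distrib, Finset.sum_add_distrib, sum_lin_apply ht2, sum_lin_apply ht2',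
      Finset.sum_const, Finset.card_univ, ← Nat.card_eq_fintype_card, card_lin, nsmul_eq_mul,
      Nat.cast_sub Fintype.card_pos]
    simp only [MonoidHom.one_apply, Units.val_one, Nat.cast_one]
    ring
  rw [hps] at h
  simp only [MonoidHom.one_apply, Units.val_one, map_one, map_sub, map_add] at h
  rw [Nat.cast_sub Fintype.card_pos, Nat.cast_one] at h
  have h0 : ((∑ χ ∈ others F m, Complex.normSq ((χ : SzG → ℂ) (dEl P t)) : ℝ) : ℂ) = ((0 : ℝ) : ℂ) := by
    rw [Complex.ofReal_sum]
    simp only [Complex.normSq_eq_conj_mul_self, Complex.ofReal_zero]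
    simp only [mul_comm (conj _) _]
    linear_combination -h / 2
  have h1 := (Finset.sum_eq_zero_iff_of_nonneg (fun χ _ => Complex.normSq_nonneg _)).1
    (Complex.ofReal_inj.1 h0) χ hχ
  exact Complex.normSq_eq_zero.1 h1

include P hF hm in
/-- The degree and the value at an involution of the other characters. -/
theorem exists_vs {χ : IrrCharacter SzG} (hχ : χ ∈ others F m) : ∃ v s : ℤ, 0 < v ∧ 0 ≤ s ∧
    (charDegree (χ : SzG → ℂ) : ℤ) = ((Fintype.card F : ℤ) - 1) * v ∧
    (χ : SzG → ℂ) (uEl P 0 1) = (((Fintype.card F : ℤ) * s - v : ℤ) : ℂ) := by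
  classical
  obtain ⟨nd, ρ, hρ⟩ := irr_isCharacter χ
  -- the split torus
  have hT : IsCharacter Fˣ (fun x => (χ : SzG → ℂ) (dHom P x)) :=
    ⟨nd, ρ.comp (dHom P), by funext x; rw [← hρ]; rfl⟩
  obtain ⟨n₀, hn₀⟩ := classInner_char_nat hT (isCharacter_one (G := Fˣ))
  have hdv : (χ : SzG → ℂ) 1 = ((Fintype.card F : ℂ) - 1) * n₀ := by
    rw [← hn₀, classInner, Finset.sum_eq_single (1 : Fˣ) (fun x _ hx => by
      rw [show dHom P x = dEl P x from rfl, vanish_torus P hF hm hχ hx, zero_mul]) (by simp),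
      Nat.card_eq_fintype_card, Fintype.card_units, Nat.cast_sub Fintype.card_pos, Nat.cast_one]
    simp only [map_one, Pi.one_apply, mul_one]
    rw [mul_inv_cancel_left₀]
    rw [sub_ne_zero]; exact_mod_cast (Fintype.one_lt_card (α := F)).ne'
  -- the centre of the Sylow subgroup
  let Z : Multiplicative F →* SzG :=
    { toFun := fun b => uEl P 0 b.toAdd
      map_one' := uEl_zero P
      map_mul' := fun a b => by rw [uEl_mul]; simp }
  let A := Multiplicative F
  have hconst : ∀ b : F, b ≠ 0 → (χ : SzG → ℂ) (uEl P 0 b) = (χ : SzG → ℂ) (uEl P 0 1) := by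
    intro b hb
    obtain ⟨y, hy⟩ := (theta_bijective P).2 b
    have hy0 : y ≠ 0 := fun h => hb (by rw [← hy, h, map_zero])
    have h := irr_isClassFunction χ (uEl P 0 1) (dEl P (Units.mk0 y hy0))
    rw [dEl_mul_uEl, mul_zero, mul_one, mul_inv_cancel_right, Units.val_mk0, hy] at h
    exact h
  have hres : IsCharacter A (fun x => (χ : SzG → ℂ) (Z x)) :=
    ⟨nd, ρ.comp Z, by funext x; rw [← hρ]; rfl⟩
  obtain ⟨a, ha⟩ := classInner_char_nat hres (isCharacter_one (G := A))
  obtain ⟨t, ht⟩ : ∃ t : A, t ≠ 1 := exists_ne 1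
  obtain ⟨lh, hlh⟩ := CommGroup.exists_apply_ne_one_of_hasEnoughRootsOfUnity A ℂ ht
  let l : A → ℂ := fun x => ((lh x : ℂˣ) : ℂ)
  obtain ⟨b, hb⟩ := classInner_char_nat hres (isCharacter_of_irr (isIrrCharacter_of_hom lh))
  have hl0 : ∑ x : A, conj (l x) = 0 := by
    rw [← map_sum]
    have := sum_hom_units_eq_zero ((Units.coeHom ℂ).comp lh) fun h => hlh (Units.ext (by
      simpa using DFunLike.congr_fun h t))
    simp only [MonoidHom.coe_comp, Function.comp_apply, Units.coeHom_apply] at this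
    rw [this, map_zero]
  have hval : ∀ x : A, (χ : SzG → ℂ) (Z x) = (χ : SzG → ℂ) (uEl P 0 1) +
      if x = 1 then (χ : SzG → ℂ) 1 - (χ : SzG → ℂ) (uEl P 0 1) else 0 := by
    intro x
    by_cases hx : x = 1
    · subst hx; rw [if_pos rfl, map_one]; ring
    · rw [if_neg hx, add_zero]
      exact hconst _ fun h => hx h
  have hcard : (Nat.card A : ℂ) = Fintype.card F := by
    rw [Nat.card_eq_fintype_card, Fintype.card_multiplicative]
  have hq : (Fintype.card F : ℂ) ≠ 0 := by exact_mod_cast Fintype.card_ne_zero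
  rw [classInner, hcard, inv_mul_eq_iff_eq_mul₀ hq] at ha hb
  simp only [Pi.one_apply, map_one, mul_one, hval, Finset.sum_add_distrib, Finset.sum_ite_eq',
    Finset.mem_univ, if_true, Finset.sum_const, Finset.card_univ, nsmul_eq_mul] at ha
  simp only [hval, add_mul, Finset.sum_add_distrib, ← Finset.mul_sum, ite_mul, zero_mul,
    Finset.sum_ite_eq', Finset.mem_univ, if_true, Units.val_one, map_one, mul_one, zero_add] at hb
  rw [hl0, mul_zero, zero_add] at hb
  rw [Fintype.card_multiplicative, Finset.sum_eq_single (1 : A) (fun x _ hx => if_neg hx) (by simp),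
    if_pos rfl] at ha
  rw [Finset.sum_eq_single (1 : A) (fun x _ hx => if_neg hx) (by simp), if_pos rfl, map_one,
    Units.val_one, map_one, mul_one] at hb
  -- conclusion
  obtain ⟨d, hd0, hd⟩ := irr_exists_degree χ.2
  have hdeg : charDegree (χ : SzG → ℂ) = d := by
    have := CfsgLib.Chars17.cast_irrDegree χ
    rw [hd] at this
    exact_mod_cast this
  have e1 : (d : ℤ) = ((Fintype.card F : ℤ) - 1) * n₀ := by
    rw [hd] at hdv
    have : ((d : ℤ) : ℂ) = ((((Fintype.card F : ℤ) - 1) * n₀ : ℤ) : ℂ) := by push_cast; exact hdv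
    exact_mod_cast this
  have e2 : (d : ℤ) = a + ((Fintype.card F : ℤ) - 1) * b := by
    have h : ((Fintype.card F : ℤ) : ℂ) * ((d : ℤ) : ℂ) =
        ((Fintype.card F : ℤ) : ℂ) * ((a + ((Fintype.card F : ℤ) - 1) * b : ℤ) : ℂ) := by
      rw [hd] at ha hb
      push_cast
      linear_combination ha + ((Fintype.card F : ℂ) - 1) * hb
    exact_mod_cast mul_left_cancel₀ (by exact_mod_cast Fintype.card_ne_zero) h
  have hq1 : (1 : ℤ) < Fintype.card F := by exact_mod_cast Fintype.one_lt_card (α := F)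
  refine ⟨n₀, (n₀ : ℤ) - b, ?_, ?_, hdeg ▸ e1, ?_⟩
  · by_contra h
    have : (n₀ : ℤ) = 0 := by omega
    rw [this, mul_zero] at e1
    omega
  · have : (0 : ℤ) ≤ a := by positivity
    nlinarith
  · rw [hd] at hdv hb
    refine mul_left_cancel₀ hq ?_
    push_cast
    linear_combination (Fintype.card F : ℂ) * hdv - (Fintype.card F : ℂ) * hb

end others

end CfsgLib.SuzukiChars
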