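import Cfsg.Agent.Lib.SuzukiChars.Torus
import Cfsg.Agent.Lib.SuzukiChars.Principal
import Cfsg.Agent.Lib.SuzukiChars.Arith
import Cfsg.Prelude.Def_DegreeGraph

/-!
# The character degrees of the Suzuki groups
-/

set_option autoImplicit false

noncomputable section

namespace CfsgLib.SuzukiChars

open Cfsg Cfsg.Lie CfsgLib.SuzukiGroup CfsgLib.Characters
open scoped ComplexConjugate

variable {F : Type*} [Field F] [Fintype F] [CharP F 2] {m : ℕ}
  (P : Params F (2 ^ (m + 1))) (hF : Fintype.card F = 2 ^ (2 * m + 1)) (hm : 1 ≤ m)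

set_option quotPrecheck false in
local notation "SzG" => ↥(Lie.Sz F (2 ^ (m + 1)))

include hF in
omit [CharP F 2] in
theorem cast_card : (Fintype.card F : ℤ) = 2 * ((2 : ℤ) ^ m) ^ 2 := by
  rw [hF]; push_cast; ring

theorem cast_toA : (toA m : ℤ) = 2 * ((2 : ℤ) ^ m) ^ 2 + 2 * (2 : ℤ) ^ m + 1 := by
  unfold toA; push_cast; ring

theorem cast_toB : (toB m : ℤ) = 2 * ((2 : ℤ) ^ m) ^ 2 - 2 * (2 : ℤ) ^ m + 1 := by
  unfold toB
  rw [Nat.cast_add, Nat.cast_sub (r_le_q m)]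
  push_cast; ring

include hm in
theorem odd_toA : Odd (toA m) := by
  unfold toA
  exact ⟨2 ^ (2 * m) + 2 ^ m, by rw [pow_succ, pow_succ]; ring⟩

include hm in
theorem odd_toB : Odd (toB m) := by
  unfold toB
  obtain ⟨d, hd⟩ : Even (2 ^ (2 * m + 1) - 2 ^ (m + 1)) := by
    refine (Nat.even_sub (r_le_q m)).2 ?_
    simp [Nat.even_pow]
  exact ⟨d, by omega⟩

variable [Fintype ↥(Lie.Sz F (2 ^ (m + 1)))]

include P hF hm in
/-- The column relations of the other characters, at two elements where the principal series is constant. -/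
theorem others_sum (g h : SzG) [Decidable (IsConj g h)] (a b : ℂ) (hg : ∀ l : Lin F, PS l g = a)
    (hh : ∀ l : Lin F, PS l h = b) :
    2 * ∑ χ ∈ others F m, (χ : SzG → ℂ) g * conj ((χ : SzG → ℂ) h) =
      2 * (if IsConj g h then (Nat.card (Subgroup.centralizer ({g} : Set SzG)) : ℂ) else 0) -
        2 - 2 * ((a - 1) * conj (b - 1)) - ((Fintype.card F : ℂ) - 2) * (a * conj b) := by
  classical
  have : Fintype (Lin F) := Fintype.ofFinite _
  have h0 := sum_split P hF hm (fun φ : SzG → ℂ => φ g * conj (φ h))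
  rw [column_orth g h] at h0
  simp only [Pi.sub_apply, hg, hh, map_one, mul_one, Finset.sum_const, nsmul_eq_mul] at h0
  rw [Finset.card_erase_of_mem (Finset.mem_univ _), Finset.card_univ, ← Nat.card_eq_fintype_card,
    card_lin, Nat.sub_sub, Nat.cast_sub (show 1 + 1 ≤ Fintype.card F from Fintype.one_lt_card)] at h0
  push_cast at h0
  linear_combination -h0

include P hF hm in
omit [Fintype ↥(Lie.Sz F (2 ^ (m + 1)))] in
theorem z_ne_one : uEl P (0 : F) 1 ≠ 1 := fun h => one_ne_zero ((uEl_eq_one P).1 h).2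

include P in
omit [Fintype ↥(Lie.Sz F (2 ^ (m + 1)))] in
theorem not_fpf_z (x : SzG) : ¬ FPF (x⁻¹ * uEl P 0 1 * x) := fun h =>
  h x (by
    rw [show x * (x⁻¹ * uEl P 0 1 * x) * x⁻¹ = uEl P 0 1 by group]
    exact uEl_mem_borel P 0 1)

include P hF hm in
omit [Fintype ↥(Lie.Sz F (2 ^ (m + 1)))] in
theorem fpf_of_mem {a u : SzG} (ha : FPF a) (hu : u ∈ Subgroup.centralizer {a}) (h1 : u ≠ 1) :
    FPF u ∧ Nat.card ↥(Subgroup.centralizer {u}) = Nat.card ↥(Subgroup.centralizer {a}) :=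
  ⟨FPF.of_commute P ha (Subgroup.mem_centralizer_singleton_iff.1 hu) h1,
    by rw [fpf_centralizer_eq P hF hm ha hu h1]⟩

include P hF hm in
theorem torus_family_of_fpf {a : SzG} (ha : FPF a) {k : ℕ} (hk2 : 2 ≤ k)
    (hk : Nat.card ↥(Subgroup.centralizer {a}) = 4 * k + 1) :
    Nonempty (TorusFamily (Subgroup.centralizer {a}) k) := by
  refine exists_torusFamily _ (fun g hg u hu hgu => ?_)
    (fun u hu h1 => (fpf_centralizer_eq P hF hm ha hu h1).le) (fun x hx y hy => ?_) hk2 hk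
    (fpf_card_normalizer P hF hm ha)
  · by_contra h1
    exact hg (fpf_TI P hF hm ha hu h1 g hgu)
  · have := fpf_isCyclic P hF hm ha
    letI := IsCyclic.commGroup (α := ↥(Subgroup.centralizer {a}))
    exact congrArg Subtype.val (mul_comm (⟨x, hx⟩ : ↥(Subgroup.centralizer {a})) ⟨y, hy⟩)

include P hF hm in
theorem family_subset_others {a : SzG} (ha : FPF a) {k : ℕ}
    (T : TorusFamily (Subgroup.centralizer {a}) k) : T.E ⊆ others F m := by
  intro e he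
  obtain ⟨x, hx, y, hy, hx1, hy1, hne⟩ := T.nonconst e he
  have hfx := (fpf_of_mem P hF hm ha hx hx1).1
  have hfy := (fpf_of_mem P hF hm ha hy hy1).1
  refine mem_others.2 ⟨fun h => hne ?_, fun h => hne ?_, fun l _ h => hne ?_⟩ <;>
    simp [h, PS_fpf _ hfx, PS_fpf _ hfy]

/-- The sorting of the other characters by degree, seen from a torus of order `q + r + 1`. -/
structure Data (P : Params F (2 ^ (m + 1))) (a : SzG) where
  /-- degree `(q - 1) (q - r + 1)` -/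
  E : Finset (IrrCharacter SzG)
  /-- degree `(q - 1) (q + r + 1)` -/
  D : Finset (IrrCharacter SzG)
  /-- degree `(q - 1) 2^m` -/
  W : Finset (IrrCharacter SzG)
  split : others F m = E ∪ D ∪ W
  disjED : Disjoint E D
  disjEW : Disjoint (E ∪ D) W
  cardE : 2 * (E.card : ℤ) = ((2 : ℤ) ^ m) ^ 2 + (2 : ℤ) ^ m
  cardD : 2 * (D.card : ℤ) = ((2 : ℤ) ^ m) ^ 2 - (2 : ℤ) ^ m
  cardW : W.card = 2
  degE : ∀ χ ∈ E, charDegree (χ : SzG → ℂ) = (Fintype.card F - 1) * toB m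
  degD : ∀ χ ∈ D, charDegree (χ : SzG → ℂ) = (Fintype.card F - 1) * toA m
  degW : ∀ χ ∈ W, charDegree (χ : SzG → ℂ) = (Fintype.card F - 1) * 2 ^ m
  zE : ∀ χ ∈ E, (χ : SzG → ℂ) (uEl P 0 1) = 2 * (2 : ℂ) ^ m - 1
  zD : ∀ χ ∈ D, (χ : SzG → ℂ) (uEl P 0 1) = -(2 * (2 : ℂ) ^ m + 1)
  zW : ∀ χ ∈ W, (χ : SzG → ℂ) (uEl P 0 1) = -(2 : ℂ) ^ m
  aD : ∀ χ ∈ D, ∀ x ∈ Subgroup.centralizer ({a} : Set SzG), x ≠ 1 → (χ : SzG → ℂ) x = 0
  aW : ∀ χ ∈ W, ∀ x ∈ Subgroup.centralizer ({a} : Set SzG), x ≠ 1 → (χ : SzG → ℂ) x = 1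
  aE : ∀ x ∈ Subgroup.centralizer ({a} : Set SzG), x ≠ 1 →
    ∑ χ ∈ E, (χ : SzG → ℂ) x = 1 ∧
      ∑ χ ∈ E, (χ : SzG → ℂ) x * conj ((χ : SzG → ℂ) x) = (toA m : ℂ) - 4
  agreeE : ∀ e ∈ E, ∀ f ∈ E, ∀ y : SzG,
    (∀ w : SzG, w⁻¹ * y * w ∈ Subgroup.centralizer ({a} : Set SzG) → w⁻¹ * y * w = 1) →
      (e : SzG → ℂ) y = (f : SzG → ℂ) y
  agreeD : ∀ e ∈ D, ∀ f ∈ D, ∀ y : SzG, orderOf y ∣ 4 → (e : SzG → ℂ) y = (f : SzG → ℂ) y

include P hF in
omit [Fintype ↥(Lie.Sz F (2 ^ (m + 1)))] in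
/-- An element of order dividing four meets no odd torus. -/
theorem two_elt_avoids {a y w : SzG} (hodd : Odd (Nat.card ↥(Subgroup.centralizer ({a} : Set SzG))))
    (hy : orderOf y ∣ 4) (hw : w⁻¹ * y * w ∈ Subgroup.centralizer ({a} : Set SzG)) :
    w⁻¹ * y * w = 1 := by
  refine orderOf_eq_one_iff.1 (Nat.eq_one_of_dvd_coprimes (a := 4) ?_ ?_
    (Subgroup.orderOf_dvd_natCard _ hw))
  · exact (Nat.Coprime.pow_left 2 hodd.coprime_two_left : Nat.Coprime (2 ^ 2) _)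
  · have h := orderOf_injective (MulAut.conj w⁻¹).toMonoidHom (MulAut.conj w⁻¹).injective y
    simp only [MulEquiv.coe_toMonoidHom, MulAut.conj_apply, inv_inv] at h
    rwa [h]

include P hF hm in
/-- The other characters, sorted. -/
theorem exists_data {a : SzG} (ha : FPF a) (hca : Nat.card ↥(Subgroup.centralizer ({a} : Set SzG)) = toA m) :
    Nonempty (Data P a) := by
  classical
  have : Fintype (Lin F) := Fintype.ofFinite _
  set t : ℤ := (2 : ℤ) ^ m with htdef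
  have hq : (Fintype.card F : ℤ) = 2 * t ^ 2 := cast_card hF
  have hqC : (Fintype.card F : ℂ) = 2 * (t : ℂ) ^ 2 := by
    have := congrArg (fun z : ℤ => (z : ℂ)) hq
    push_cast at this
    exact this
  have htc : t = 2 ∨ 4 ≤ t := by
    rcases (show m = 1 ∨ 2 ≤ m by omega) with rfl | h
    · exact Or.inl (by norm_num [htdef])
    · refine Or.inr ?_
      calc (4 : ℤ) = 2 ^ 2 := by norm_num
        _ ≤ 2 ^ m := pow_le_pow_right₀ (by norm_num) h
  have ht : 2 ≤ t := by omega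
  have hq1 : (2 * t ^ 2 - 1 : ℤ) ≠ 0 := by nlinarith
  -- degree and value at the involution
  choose! v s hv hs hd hz using fun χ (hχ : χ ∈ others F m) => exists_vs P hF hm hχ
  have hdC : ∀ χ ∈ others F m, (χ : SzG → ℂ) 1 = (((2 * t ^ 2 - 1) * v χ : ℤ) : ℂ) := fun χ hχ => by
    rw [← CfsgLib.Chars17.cast_irrDegree, ← hq, ← hd χ hχ]; norm_cast
  have hzC : ∀ χ ∈ others F m, (χ : SzG → ℂ) (uEl P 0 1) = ((2 * t ^ 2 * s χ - v χ : ℤ) : ℂ) :=
    fun χ hχ => by rw [hz χ hχ, hq]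
  -- the sums over the other characters
  have hps1 : ∀ l : Lin F, PS (m := m) l 1 = (Fintype.card F : ℂ) ^ 2 + 1 := fun l => PS_one P l
  have hpsz : ∀ l : Lin F, PS (m := m) l (uEl P 0 1) = 1 := fun l =>
    PS_unip P hF hm l ⟨0, 1, rfl⟩ (z_ne_one P hF hm)
  have hzconj : ¬ IsConj (1 : SzG) (uEl P 0 1) := fun h => z_ne_one P hF hm (isConj_one_right.1 h)
  have O1 := others_sum P hF hm 1 1 _ _ hps1 hps1
  have O2 := others_sum P hF hm 1 (uEl P 0 1) _ _ hps1 hpsz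
  have O3 := others_sum P hF hm (uEl P 0 1) (uEl P 0 1) _ _ hpsz hpsz
  rw [if_pos (IsConj.refl _), card_centralizer_uEl P hF hm 0 1 (z_ne_one P hF hm), if_pos rfl] at O3
  rw [if_pos (IsConj.refl _)] at O1
  rw [show Nat.card ↥(Subgroup.centralizer ({1} : Set SzG)) = Nat.card SzG from Nat.card_congr
    (Equiv.subtypeUnivEquiv fun x => Subgroup.mem_centralizer_singleton_iff.2 (by simp)),
    card_sz P, Nat.cast_mul, Nat.cast_mul, Nat.cast_sub Fintype.card_pos] at O1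
  rw [if_neg hzconj] at O2
  rw [Finset.sum_congr rfl (fun χ hχ => by rw [hdC χ hχ, map_intCast, ← Int.cast_mul]), ← Int.cast_sum,
    hqC] at O1
  rw [Finset.sum_congr rfl (fun χ hχ => by rw [hdC χ hχ, hzC χ hχ, map_intCast, ← Int.cast_mul]),
    ← Int.cast_sum, hqC] at O2
  rw [Finset.sum_congr rfl (fun χ hχ => by rw [hzC χ hχ, map_intCast, ← Int.cast_mul]), ← Int.cast_sum,
    Nat.cast_pow, hqC] at O3
  simp only [map_add, map_sub, map_mul, map_pow, map_one, map_ofNat, map_intCast, Nat.cast_add,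
    Nat.cast_pow, Nat.cast_one, hqC] at O1 O2 O3
  set O := others F m with hO
  have S1 : ∑ χ ∈ O, v χ ^ 2 = t ^ 2 * (4 * t ^ 4 - 1) := by
    have e : ∑ χ ∈ O, (2 * t ^ 2 - 1) * v χ * ((2 * t ^ 2 - 1) * v χ) =
        (2 * t ^ 2 - 1) ^ 2 * ∑ χ ∈ O, v χ ^ 2 := by
      rw [Finset.mul_sum]; exact Finset.sum_congr rfl fun χ _ => by ring
    rw [e] at O1
    have : (((2 * t ^ 2 - 1) ^ 2 * ∑ χ ∈ O, v χ ^ 2 : ℤ) : ℂ) =
        (((2 * t ^ 2 - 1) ^ 2 * (t ^ 2 * (4 * t ^ 4 - 1)) : ℤ) : ℂ) := by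
      push_cast at O1 ⊢
      linear_combination O1 / 2
    exact mul_left_cancel₀ (pow_ne_zero 2 hq1) (Int.cast_injective this)
  have S12 : ∑ χ ∈ O, v χ * (2 * t ^ 2 * s χ - v χ) = -(t ^ 2 * (2 * t ^ 2 - 1)) := by
    have e : ∑ χ ∈ O, (2 * t ^ 2 - 1) * v χ * (2 * t ^ 2 * s χ - v χ) =
        (2 * t ^ 2 - 1) * ∑ χ ∈ O, v χ * (2 * t ^ 2 * s χ - v χ) := by
      rw [Finset.mul_sum]; exact Finset.sum_congr rfl fun χ _ => by ring
    rw [e] at O2
    have : (((2 * t ^ 2 - 1) * ∑ χ ∈ O, v χ * (2 * t ^ 2 * s χ - v χ) : ℤ) : ℂ) =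
        (((2 * t ^ 2 - 1) * -(t ^ 2 * (2 * t ^ 2 - 1)) : ℤ) : ℂ) := by
      push_cast at O2 ⊢
      linear_combination O2 / 2
    exact mul_left_cancel₀ hq1 (Int.cast_injective this)
  have S22 : ∑ χ ∈ O, (2 * t ^ 2 * s χ - v χ) * (2 * t ^ 2 * s χ - v χ) = 4 * t ^ 4 - t ^ 2 := by
    have : ((∑ χ ∈ O, (2 * t ^ 2 * s χ - v χ) * (2 * t ^ 2 * s χ - v χ) : ℤ) : ℂ) =
        ((4 * t ^ 4 - t ^ 2 : ℤ) : ℂ) := by
      push_cast at O3 ⊢
      linear_combination O3 / 2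
    exact Int.cast_injective this
  have S2 : ∑ χ ∈ O, v χ * s χ = t ^ 2 * (2 * t ^ 2 - 1) := by
    have e : ∑ χ ∈ O, v χ * (2 * t ^ 2 * s χ - v χ) =
        2 * t ^ 2 * ∑ χ ∈ O, v χ * s χ - ∑ χ ∈ O, v χ ^ 2 := by
      rw [Finset.mul_sum, ← Finset.sum_sub_distrib]; exact Finset.sum_congr rfl fun χ _ => by ring
    rw [e, S1] at S12
    exact mul_left_cancel₀ (show (2 * t ^ 2 : ℤ) ≠ 0 by positivity) (by linear_combination S12)
  have S3 : ∑ χ ∈ O, s χ ^ 2 = t ^ 2 := by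
    have e : ∑ χ ∈ O, (2 * t ^ 2 * s χ - v χ) * (2 * t ^ 2 * s χ - v χ) =
        (2 * t ^ 2) ^ 2 * ∑ χ ∈ O, s χ ^ 2 - 2 * (2 * t ^ 2) * ∑ χ ∈ O, v χ * s χ + ∑ χ ∈ O, v χ ^ 2 := by
      rw [Finset.mul_sum, Finset.mul_sum, ← Finset.sum_sub_distrib, ← Finset.sum_add_distrib]
      exact Finset.sum_congr rfl fun χ _ => by ring
    rw [e, S1, S2] at S22
    exact mul_left_cancel₀ (pow_ne_zero 2 (show (2 * t ^ 2 : ℤ) ≠ 0 by positivity))
      (by linear_combination S22)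
  -- members of a family have the same parameters
  have hsame : ∀ (a : SzG), FPF a → ∀ (k : ℕ) (T : TorusFamily (Subgroup.centralizer {a}) k),
      ∀ e ∈ T.E, ∀ f ∈ T.E, v e = v f ∧ s e = s f := by
    intro a ha k T e he f hf
    have hsub := family_subset_others P hF hm ha T
    have h1 := T.agree e he f hf 1 (fun x _ => by group)
    have h2 := T.agree e he f hf (uEl P 0 1) (fun x hx => by
      by_contra hne
      exact not_fpf_z P x (fpf_of_mem P hF hm ha hx hne).1)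
    rw [hdC e (hsub he), hdC f (hsub hf)] at h1
    rw [hzC e (hsub he), hzC f (hsub hf)] at h2
    have hv' := mul_left_cancel₀ hq1 (Int.cast_injective h1)
    refine ⟨hv', mul_left_cancel₀ (show (2 * t ^ 2 : ℤ) ≠ 0 by positivity) ?_⟩
    linear_combination (Int.cast_injective h2 : (2 * t ^ 2 * s e - v e : ℤ) = 2 * t ^ 2 * s f - v f) + hv'
  -- the first family
  obtain ⟨-, b, -, hb, -, hcb⟩ := exists_torus_pair P hF hm
  obtain ⟨kA, hkA⟩ : ∃ k, 2 ^ m * (2 ^ m + 1) = k + k := Nat.even_mul_succ_self (2 ^ m)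
  have hkA' : 2 * (kA : ℤ) = t ^ 2 + t := by
    have := congrArg (Nat.cast (R := ℤ)) hkA
    push_cast at this
    rw [← htdef] at this
    linarith
  have hkA2 : 2 ≤ kA := by nlinarith
  have hcardA : Nat.card ↥(Subgroup.centralizer {a}) = 4 * kA + 1 := by
    rw [hca]
    have : (toA m : ℤ) = ((4 * kA + 1 : ℕ) : ℤ) := by
      rw [cast_toA, ← htdef]; push_cast; linarith
    exact_mod_cast this
  obtain ⟨TA⟩ := torus_family_of_fpf P hF hm ha hkA2 hcardA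
  have hAsub := family_subset_others P hF hm ha TA
  obtain ⟨e₀, he₀⟩ : TA.E.Nonempty := Finset.card_pos.1 (by rw [TA.card_E]; omega)
  obtain ⟨x, hx, -, -, hx1, -, -⟩ := TA.nonconst e₀ he₀
  obtain ⟨hxf, hxc⟩ := fpf_of_mem P hF hm ha hx hx1
  have hpsx : ∀ l : Lin F, PS (m := m) l x = 0 := fun l => PS_fpf l hxf
  have X1 := others_sum P hF hm x x _ _ hpsx hpsx
  have X2 := others_sum P hF hm x 1 _ _ hpsx hps1
  have X3 := others_sum P hF hm x (uEl P 0 1) _ _ hpsx hpsz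
  rw [if_pos (IsConj.refl _), hxc, hcardA, ← Finset.sum_sdiff hAsub, TA.sum_sq x hx hx1,
    Finset.sum_congr rfl (fun χ hχ => by rw [TA.val χ (Finset.mem_sdiff.1 hχ).2 x hx hx1, map_intCast,
      ← Int.cast_mul]), ← Int.cast_sum] at X1
  have hE1 : ∑ χ ∈ TA.E, (χ : SzG → ℂ) x * conj ((χ : SzG → ℂ) 1) =
      ((kA * TA.c₀ - TA.ε : ℤ) : ℂ) * (((2 * t ^ 2 - 1) * v e₀ : ℤ) : ℂ) := by
    rw [← TA.sum_val x hx hx1, Finset.sum_mul]
    exact Finset.sum_congr rfl fun χ hχ => by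
      rw [hdC χ (hAsub hχ), (hsame a ha _ TA χ hχ e₀ he₀).1, map_intCast]
  have hEz : ∑ χ ∈ TA.E, (χ : SzG → ℂ) x * conj ((χ : SzG → ℂ) (uEl P 0 1)) =
      ((kA * TA.c₀ - TA.ε : ℤ) : ℂ) * ((2 * t ^ 2 * s e₀ - v e₀ : ℤ) : ℂ) := by
    rw [← TA.sum_val x hx hx1, Finset.sum_mul]
    exact Finset.sum_congr rfl fun χ hχ => by
      rw [hzC χ (hAsub hχ), (hsame a ha _ TA χ hχ e₀ he₀).1, (hsame a ha _ TA χ hχ e₀ he₀).2, map_intCast]
  rw [if_neg (fun h => hxf.ne_one (isConj_one_left.1 h)), ← Finset.sum_sdiff hAsub,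
    Finset.sum_congr rfl (fun χ hχ => by rw [TA.val χ (Finset.mem_sdiff.1 hχ).2 x hx hx1,
      hdC χ (Finset.mem_sdiff.1 hχ).1, map_intCast, ← Int.cast_mul]), ← Int.cast_sum,
    hE1] at X2
  rw [if_neg (fun h => by
      obtain ⟨y, hy⟩ := isConj_iff.1 h
      exact hxf y (hy ▸ uEl_mem_borel P 0 1)), ← Finset.sum_sdiff hAsub,
    Finset.sum_congr rfl (fun χ hχ => by rw [TA.val χ (Finset.mem_sdiff.1 hχ).2 x hx hx1,
      hzC χ (Finset.mem_sdiff.1 hχ).1, map_intCast, ← Int.cast_mul]), ← Int.cast_sum,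
    hEz] at X3
  simp only [map_add, map_sub, map_mul, map_pow, map_one, map_ofNat, map_zero, map_intCast, hqC] at X1 X2 X3
  set R := O \ TA.E with hR
  have C2 : ∑ χ ∈ R, TA.c χ ^ 2 + TA.E.card * TA.c₀ ^ 2 - 2 * TA.ε * TA.c₀ = 2 := by
    have : ((∑ χ ∈ R, TA.c χ * TA.c χ + (kA * TA.c₀ ^ 2 - 2 * TA.ε * TA.c₀) : ℤ) : ℂ) = ((2 : ℤ) : ℂ) := by
      push_cast at X1 ⊢
      linear_combination X1 / 2
    have := Int.cast_injective this
    rw [Finset.sum_congr rfl (fun χ _ => show TA.c χ * TA.c χ = TA.c χ ^ 2 by ring)] at this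
    rw [TA.card_E]
    linarith
  have E1 : v e₀ * (TA.E.card * TA.c₀ - TA.ε) + ∑ χ ∈ R, TA.c χ * v χ = 2 * t ^ 2 + 1 := by
    have e : ∑ χ ∈ R, TA.c χ * ((2 * t ^ 2 - 1) * v χ) = (2 * t ^ 2 - 1) * ∑ χ ∈ R, TA.c χ * v χ := by
      rw [Finset.mul_sum]; exact Finset.sum_congr rfl fun χ _ => by ring
    rw [e] at X2
    have : (((2 * t ^ 2 - 1) * (v e₀ * (kA * TA.c₀ - TA.ε) + ∑ χ ∈ R, TA.c χ * v χ) : ℤ) : ℂ) =
        (((2 * t ^ 2 - 1) * (2 * t ^ 2 + 1) : ℤ) : ℂ) := by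
      push_cast at X2 ⊢
      linear_combination X2 / 2
    rw [TA.card_E]
    exact mul_left_cancel₀ hq1 (Int.cast_injective this)
  have E2 : s e₀ * (TA.E.card * TA.c₀ - TA.ε) + ∑ χ ∈ R, TA.c χ * s χ = 1 := by
    have e : ∑ χ ∈ R, TA.c χ * (2 * t ^ 2 * s χ - v χ) =
        2 * t ^ 2 * ∑ χ ∈ R, TA.c χ * s χ - ∑ χ ∈ R, TA.c χ * v χ := by
      rw [Finset.mul_sum, ← Finset.sum_sub_distrib]; exact Finset.sum_congr rfl fun χ _ => by ring
    rw [e] at X3
    have : ((2 * t ^ 2 * ∑ χ ∈ R, TA.c χ * s χ - ∑ χ ∈ R, TA.c χ * v χ +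
        (kA * TA.c₀ - TA.ε) * (2 * t ^ 2 * s e₀ - v e₀) : ℤ) : ℂ) = ((-1 : ℤ) : ℂ) := by
      push_cast at X3 ⊢
      linear_combination X3 / 2
    have := Int.cast_injective this
    rw [TA.card_E] at E1 ⊢
    exact mul_left_cancel₀ (show (2 * t ^ 2 : ℤ) ≠ 0 by positivity) (by linear_combination this + E1)
  have hAk : (4 * (kA : ℤ) + 1) = 2 * t ^ 2 + 2 * t + 1 := by linarith
  obtain ⟨⟨hs0, hv0, hc00, hεv⟩, hR1, hRC, hRCs, hRs2⟩ := first_family htc O TA.E hAsub v s TA.c hv hs S1 S2 S3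
    (v₀ := v e₀) (s₀ := s e₀) (c := TA.c₀) (ε := TA.ε)
    (fun e he => (hsame a ha _ TA e he e₀ he₀).1) (fun e he => (hsame a ha _ TA e he e₀ he₀).2)
    (by rw [TA.card_E]; exact hkA') TA.sign C2 E1 E2
    (by
      have := TA.cong_in e₀ he₀
      rw [hd e₀ (hAsub he₀), hq, hAk] at this
      exact this)
    (fun χ hχ => by
      have := TA.cong_out χ (Finset.mem_sdiff.1 hχ).2
      rw [hd χ (Finset.mem_sdiff.1 hχ).1, hq, hAk] at this
      exact this)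
  -- the second family
  have hTB : t ≠ 2 → ∃ k : ℕ, ∃ TB : TorusFamily (Subgroup.centralizer ({b} : Set SzG)) k,
      TB.E ⊆ R ∧ 2 * (k : ℤ) = t ^ 2 - t ∧ ∀ i ∈ TB.E, ∀ i' ∈ TB.E, v i = v i' ∧ s i = s i' := by
    intro ht2
    obtain ⟨kB, hkB⟩ : ∃ k, (2 ^ m - 1) * 2 ^ m = k + k :=
      (Nat.even_pow.2 ⟨even_two, by omega⟩).mul_left _
    have hkB' : 2 * (kB : ℤ) = t ^ 2 - t := by
      have := congrArg (Nat.cast (R := ℤ)) hkB
      rw [Nat.cast_mul, Nat.cast_sub (Nat.one_le_two_pow)] at this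
      push_cast at this
      rw [← htdef] at this
      linarith
    have ht4 : 4 ≤ t := by omega
    have hkB2 : 2 ≤ kB := by nlinarith
    have hcardB : Nat.card ↥(Subgroup.centralizer {b}) = 4 * kB + 1 := by
      rw [hcb]
      have : (toB m : ℤ) = ((4 * kB + 1 : ℕ) : ℤ) := by
        rw [cast_toB, ← htdef]; push_cast; linarith
      exact_mod_cast this
    obtain ⟨TB⟩ := torus_family_of_fpf P hF hm hb hkB2 hcardB
    refine ⟨kB, TB, fun f hf => ?_, hkB', hsame b hb _ TB⟩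
    refine Finset.mem_sdiff.2 ⟨family_subset_others P hF hm hb TB hf, fun hfA => ?_⟩
    obtain ⟨f', hf', hne⟩ := Finset.exists_mem_ne (by rw [TB.card_E]; omega : 1 < TB.E.card) f
    have hf'O := family_subset_others P hF hm hb TB hf'
    obtain ⟨e1, e2⟩ := hsame b hb _ TB f' hf' f hf
    obtain ⟨e3, e4⟩ := hsame a ha _ TA f hfA e₀ he₀
    by_cases hf'A : f' ∈ TA.E
    · obtain ⟨y, hy, hy1, hyne⟩ := TA.separated f' hf'A f hfA hne
      refine hyne (TB.agree f' hf' f hf y fun w hw => ?_)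
      by_contra hw1
      have hcB := (fpf_of_mem P hF hm hb hw hw1).2
      have hcA := (fpf_of_mem P hF hm ha hy hy1).2
      have hcc : Nat.card ↥(Subgroup.centralizer {w⁻¹ * y * w}) = Nat.card ↥(Subgroup.centralizer {y}) := by
        simpa using card_centralizer_conj w⁻¹ y
      rw [hcc, hcA, hca, hcb] at hcB
      have := congrArg (Nat.cast (R := ℤ)) hcB
      rw [cast_toA, cast_toB, ← htdef] at this
      linarith
    · obtain ⟨eq, c1, c2⟩ := hR1 f' (Finset.mem_sdiff.2 ⟨hf'O, hf'A⟩)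
      rw [e1, e3, e2, e4, hs0, hv0] at eq
      have h4 : t * (TA.c f' + 4) = 0 := by linear_combination -eq
      rcases mul_eq_zero.1 h4 with h | h <;> omega
  obtain ⟨hall, -, -⟩ := second_family htc R v s TA.c
    (fun χ hχ => hv χ (Finset.mem_sdiff.1 hχ).1) (fun χ hχ => hs χ (Finset.mem_sdiff.1 hχ).1)
    hR1 hRC hRCs hRs2 (fun ht2 => by
      obtain ⟨k, TB, h1, h2, h3⟩ := hTB ht2
      exact ⟨TB.E, h1, by rw [TB.card_E]; exact h2, h3⟩)
  -- the three sets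
  set D := R.filter (fun χ => s χ = 1) with hDdef
  set W := R.filter (fun χ => ¬ s χ = 1) with hWdef
  have hD : ∀ χ ∈ D, v χ = 2 * t ^ 2 + 2 * t + 1 ∧ s χ = 1 ∧ TA.c χ = 0 := fun χ hχ => by
    obtain ⟨h1, h2⟩ := Finset.mem_filter.1 hχ
    exact (hall χ h1).resolve_right fun h => by rw [h.2.1] at h2; exact zero_ne_one h2
  have hW : ∀ χ ∈ W, v χ = t ∧ s χ = 0 ∧ TA.c χ = 1 := fun χ hχ => by
    obtain ⟨h1, h2⟩ := Finset.mem_filter.1 hχ
    exact (hall χ h1).resolve_left fun h => h2 h.2.1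
  have hcD : 2 * (D.card : ℤ) = t ^ 2 - t := by
    rw [← hRs2, ← Finset.sum_filter_add_sum_filter_not R (fun χ => s χ = 1) (fun χ => s χ ^ 2),
      ← hDdef, ← hWdef, Finset.sum_congr rfl (fun χ hχ => show s χ ^ 2 = 1 by rw [(hD χ hχ).2.1]; norm_num),
      Finset.sum_congr rfl (s₁ := W) (g := fun _ => (0 : ℤ)) (fun χ hχ => by rw [(hW χ hχ).2.1]; norm_num)]
    simp
  have hcW : W.card = 2 := by
    have h := hRC
    rw [← Finset.sum_filter_add_sum_filter_not R (fun χ => s χ = 1) (fun χ => TA.c χ ^ 2),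
      ← hDdef, ← hWdef, Finset.sum_congr rfl (fun χ hχ => show TA.c χ ^ 2 = 0 by rw [(hD χ hχ).2.2]; norm_num),
      Finset.sum_congr rfl (s₁ := W) (g := fun _ => (1 : ℤ)) (fun χ hχ => by rw [(hW χ hχ).2.2]; norm_num)] at h
    simp at h
    omega
  have hdeg2 : ∀ χ ∈ O, ∀ w : ℕ, v χ = (w : ℤ) → charDegree (χ : SzG → ℂ) = (Fintype.card F - 1) * w := by
    intro χ hχ w hw
    have h := hd χ hχ
    rw [hw] at h
    have : (((Fintype.card F - 1) * w : ℕ) : ℤ) = ((Fintype.card F : ℤ) - 1) * w := by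
      rw [Nat.cast_mul, Nat.cast_sub Fintype.card_pos, Nat.cast_one]
    exact_mod_cast h.trans this.symm
  have hRO : ∀ χ ∈ R, χ ∈ O := fun χ hχ => (Finset.mem_sdiff.1 hχ).1
  have hRD : ∀ χ ∈ D, χ ∈ R := fun χ hχ => (Finset.mem_filter.1 hχ).1
  have hRW : ∀ χ ∈ W, χ ∈ R := fun χ hχ => (Finset.mem_filter.1 hχ).1
  have hAN : 2 * t ^ 2 + 2 * t + 1 = (toA m : ℤ) := cast_toA.symm
  have hBN : 2 * t ^ 2 - 2 * t + 1 = (toB m : ℤ) := cast_toB.symm
  have htN : t = ((2 ^ m : ℕ) : ℤ) := by rw [htdef]; norm_num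
  have htC : ((t : ℤ) : ℂ) = (2 : ℂ) ^ m := by rw [htdef]; norm_num
  have hEv : ∀ χ ∈ TA.E, v χ = 2 * t ^ 2 - 2 * t + 1 ∧ s χ = 1 := fun χ hχ =>
    ⟨(hsame a ha _ TA χ hχ e₀ he₀).1.trans hv0, (hsame a ha _ TA χ hχ e₀ he₀).2.trans hs0⟩
  refine ⟨{ E := TA.E, D := D, W := W, split := ?_, disjED := ?_, disjEW := ?_,
            cardE := by rw [TA.card_E]; exact hkA', cardD := hcD, cardW := hcW,
            degE := fun χ hχ => hdeg2 χ (hAsub hχ) _ ((hEv χ hχ).1.trans hBN),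
            degD := fun χ hχ => hdeg2 χ (hRO χ (hRD χ hχ)) _ ((hD χ hχ).1.trans hAN),
            degW := fun χ hχ => hdeg2 χ (hRO χ (hRW χ hχ)) _ ((hW χ hχ).1.trans htN),
            zE := ?_, zD := ?_, zW := ?_, aD := ?_, aW := ?_, aE := ?_,
            agreeE := fun e he f hf y hy => TA.agree e he f hf y hy, agreeD := ?_ }⟩
  · rw [Finset.union_assoc, hDdef, hWdef, Finset.filter_union_filter_not_eq, hR,
      Finset.union_sdiff_of_subset hAsub]
  · exact Finset.disjoint_right.2 fun χ hχ => (Finset.mem_sdiff.1 (hRD χ hχ)).2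
  · refine Finset.disjoint_left.2 fun χ hχ hχW => ?_
    rcases Finset.mem_union.1 hχ with h | h
    · exact (Finset.mem_sdiff.1 (hRW χ hχW)).2 h
    · exact (Finset.mem_filter.1 hχW).2 (Finset.mem_filter.1 h).2
  · intro χ hχ
    rw [hzC χ (hAsub hχ), (hEv χ hχ).1, (hEv χ hχ).2, ← htC]
    push_cast; ring
  · intro χ hχ
    rw [hzC χ (hRO χ (hRD χ hχ)), (hD χ hχ).1, (hD χ hχ).2.1, ← htC]
    push_cast; ring
  · intro χ hχ
    rw [hzC χ (hRO χ (hRW χ hχ)), (hW χ hχ).1, (hW χ hχ).2.1, ← htC]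
    push_cast; ring
  · intro χ hχ y hy hy1
    rw [TA.val χ (Finset.mem_sdiff.1 (hRD χ hχ)).2 y hy hy1, (hD χ hχ).2.2, Int.cast_zero]
  · intro χ hχ y hy hy1
    rw [TA.val χ (Finset.mem_sdiff.1 (hRW χ hχ)).2 y hy hy1, (hW χ hχ).2.2, Int.cast_one]
  · intro y hy hy1
    refine ⟨by rw [TA.sum_val y hy hy1, hc00, hεv]; norm_num, ?_⟩
    rw [TA.sum_sq y hy hy1, hc00, hεv, show toA m = 4 * kA + 1 from hca.symm.trans hcardA]
    push_cast; ring
  · intro e he f hf y hy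
    by_cases ht2 : t = 2
    · have : D.card ≤ 1 := by
        rw [ht2] at hcD
        omega
      rw [Finset.card_le_one.1 this e he f hf]
    · obtain ⟨k, TB, hsub, hk, hsm⟩ := hTB ht2
      have hk2 : 3 ≤ (k : ℤ) := by nlinarith [show 3 ≤ t by omega]
      have hBD : TB.E = D := by
        refine Finset.eq_of_subset_of_card_le (fun χ hχ => ?_) ?_
        · refine Finset.mem_filter.2 ⟨hsub hχ, ?_⟩
          by_contra hs1
          have hallW : TB.E ⊆ W := fun ξ hξ =>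
            Finset.mem_filter.2 ⟨hsub hξ, by rw [(hsm ξ hξ χ hχ).2]; exact hs1⟩
          have := Finset.card_le_card hallW
          rw [TB.card_E, hcW] at this
          omega
        · rw [TB.card_E]; omega
      rw [← hBD] at he hf
      refine TB.agree e he f hf y fun w hw => ?_
      exact two_elt_avoids P hF (by rw [hcb]; exact odd_toB hm) hy hw

include P hF hm in
/-- The character degrees of the Suzuki group. -/
theorem charDegrees_sz : charDegrees SzG =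
    {1, Fintype.card F ^ 2, Fintype.card F ^ 2 + 1, (Fintype.card F - 1) * toA m,
      (Fintype.card F - 1) * toB m, (Fintype.card F - 1) * 2 ^ m} := by
  classical
  obtain ⟨a, -, ha, -, hca, -⟩ := exists_torus_pair P hF hm
  obtain ⟨T⟩ := exists_data P hF hm ha hca
  have h4 : 4 ≤ ((2 : ℤ) ^ m) ^ 2 := by
    have : (2 : ℤ) ≤ 2 ^ m := le_self_pow₀ (by norm_num) (by omega)
    nlinarith
  have hdeg : ∀ (χ : IrrCharacter SzG) (d : ℕ), (χ : SzG → ℂ) 1 = (d : ℂ) → charDegree (χ : SzG → ℂ) = d :=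
    fun χ d h => by
      have h' := (CfsgLib.Chars17.cast_irrDegree χ).trans h
      exact_mod_cast h'
  ext d
  simp only [Set.mem_insert_iff, Set.mem_singleton_iff]
  constructor
  · rintro ⟨χ, rfl⟩
    by_cases hχ : χ ∈ others F m
    · rw [T.split, Finset.mem_union, Finset.mem_union] at hχ
      rcases hχ with (h | h) | h
      · exact Or.inr (Or.inr (Or.inr (Or.inr (Or.inl (T.degE χ h)))))
      · exact Or.inr (Or.inr (Or.inr (Or.inl (T.degD χ h))))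
      · exact Or.inr (Or.inr (Or.inr (Or.inr (Or.inr (T.degW χ h)))))
    · simp only [mem_others, IsOther, not_and_or, not_not, not_forall, exists_prop] at hχ
      rcases hχ with h | h | ⟨l, -, h⟩
      · exact Or.inl (hdeg χ 1 (by rw [h]; norm_num))
      · exact Or.inr (Or.inl (hdeg χ _ (by rw [h, Pi.sub_apply, PS_one P]; push_cast; ring)))
      · exact Or.inr (Or.inr (Or.inl (hdeg χ _ (by rw [h, PS_one P]; push_cast; ring))))
  · rintro (rfl | rfl | rfl | rfl | rfl | rfl)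
    · exact ⟨⟨fun _ => 1, isIrrCharacter_one⟩, hdeg _ _ (by norm_num)⟩
    · exact ⟨⟨_, St_irr P hF hm⟩, hdeg _ _ (by
        show (PS (1 : Lin F) - fun _ => 1 : SzG → ℂ) 1 = _
        rw [Pi.sub_apply, PS_one P]; push_cast; ring)⟩
    · obtain ⟨l, hl⟩ : ∃ l : Lin F, l ≠ 1 := by
        have : Nontrivial (Lin F) := Finite.one_lt_card_iff_nontrivial.1 (by
          rw [card_lin]; have := eight_le hF hm; omega)
        exact exists_ne 1
      exact ⟨⟨_, PS_irr P hF hm hl⟩, hdeg _ _ (by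
        show PS l 1 = _
        rw [PS_one P]; push_cast; ring)⟩
    · obtain ⟨χ, hχ⟩ : T.D.Nonempty := Finset.card_pos.1 (by
        have := T.cardD
        have : (2 : ℤ) ≤ 2 ^ m := le_self_pow₀ (by norm_num) (by omega)
        by_contra h0
        have : (T.D.card : ℤ) = 0 := by omega
        nlinarith)
      exact ⟨χ, T.degD χ hχ⟩
    · obtain ⟨χ, hχ⟩ : T.E.Nonempty := Finset.card_pos.1 (by
        have := T.cardE
        have : (2 : ℤ) ≤ 2 ^ m := le_self_pow₀ (by norm_num) (by omega)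
        omega)
      exact ⟨χ, T.degE χ hχ⟩
    · obtain ⟨χ, hχ⟩ : T.W.Nonempty := Finset.card_pos.1 (by rw [T.cardW]; norm_num)
      exact ⟨χ, T.degW χ hχ⟩

end CfsgLib.SuzukiChars
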